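import Groth.Agent.StFib.QC2
import Groth.Agent.StFib.DescBase
import Groth.Agent.StFib.LocQMore
import Groth.Agent.StFib.Descent
import Groth.Prelude.Def_StMod6

/-!
Finite coverings of the category of a quasi-compact quasi-separated morphism of stacks over an object
with affine scheme: one affine object covering everything, and one affine object covering the pairs
of morphisms into it.
-/

set_option autoImplicit false
set_option linter.style.haveILetI false
set_option linter.unusedSectionVars false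
set_option backward.isDefEq.respectTransparency false
set_option backward.isDefEq.respectTransparency.types false

universe u

open CategoryTheory CategoryTheory.Limits AlgebraicGeometry Opposite FibCat

noncomputable section

namespace Groth.Agent.StGen

open Groth.Agent.StFib

variable {S : Scheme.{u}}

/-- A morphism of objects is a flat, locally finitely presented neighbourhood of a point. -/
def IsNhd {𝒵 : AlgSt.Cat S} {y z : 𝒵.obj} (a : y ⟶ z) (w : StMod.sch 𝒵 z) : Prop :=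
  Flat (StMod.bmap 𝒵 a) ∧ LocallyOfFinitePresentation (StMod.bmap 𝒵 a) ∧
    w ∈ Set.range (StMod.bmap 𝒵 a)

/-- An affine object covering all objects, and an affine object covering all pairs of morphisms into it. -/
structure FinCover (𝒵 : AlgSt.Cat S) where
  /-- the covering object -/
  x₀ : 𝒵.obj
  /-- the object covering pairs -/
  x₁ : 𝒵.obj
  /-- first morphism -/
  p : x₁ ⟶ x₀
  /-- second morphism -/
  q : x₁ ⟶ x₀
  aff₀ : IsAffine (StMod.sch 𝒵 x₀)
  aff₁ : IsAffine (StMod.sch 𝒵 x₁)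
  cover : ∀ (z : 𝒵.obj) (w : StMod.sch 𝒵 z),
    ∃ (y : 𝒵.obj) (a : y ⟶ z) (_ : y ⟶ x₀), IsNhd a w
  cover₂ : ∀ (z : 𝒵.obj) (a b : z ⟶ x₀) (w : StMod.sch 𝒵 z),
    ∃ (y : 𝒵.obj) (c : y ⟶ z) (d : y ⟶ x₁), IsNhd c w ∧ d ≫ p = c ≫ a ∧ d ≫ q = c ≫ b

theorem toId_comp {U : Over S} {g g' : Over U} (k : g ⟶ g') : k ≫ overToId g' = overToId g :=
  Over.OverMorphism.ext (over_w k)

section Transfer

variable {𝒵 : AlgSt.Cat S}

/-- The members of an fppf covering sieve give neighbourhoods. -/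
theorem exists_nhd (h : IsFibGrpd 𝒵.p) {z : 𝒵.obj} {R : Sieve (𝒵.p.obj z)}
    (hR : R ∈ QuotSh.J Scheme.fppfPrecoverage S (𝒵.p.obj z)) (w : StMod.sch 𝒵 z) :
    ∃ (V : Over S) (g : V ⟶ 𝒵.p.obj z) (y : 𝒵.obj) (ν : y ⟶ z),
      R g ∧ 𝒵.p.IsHomLift g ν ∧ IsNhd ν w := by
  obtain ⟨R₀, hR₀, hsub⟩ := Groth.Agent.AlgSp.exists_cover_of_mem hR
  obtain ⟨κ, W, c, rfl⟩ := R₀.exists_eq_ofArrows
  obtain ⟨hs, hc⟩ := (Scheme.ofArrows_mem_precoverage_iff _).1 hR₀
  obtain ⟨j, t, ht⟩ := hs w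
  let g : Over.mk (c j ≫ (𝒵.p.obj z).hom) ⟶ 𝒵.p.obj z := Over.homMk (c j) rfl
  obtain ⟨y, e, ν, hν⟩ := grpd_exists_lift h z g
  refine ⟨_, g, y, ν, hsub (c j) (Presieve.ofArrows.mk j), IsHomLift.of_fac' _ _ _ e rfl (by simp [hν]), ?_⟩
  have hb : StMod.bmap 𝒵 ν = ((Over.forget S).mapIso (eqToIso e)).hom ≫ c j :=
    congrArg CommaMorphism.left hν
  haveI : Flat (c j) := (hc j).1
  haveI : LocallyOfFinitePresentation (c j) := (hc j).2
  refine ⟨by rw [hb]; infer_instance, by rw [hb]; infer_instance, ?_⟩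
  obtain ⟨t', rfl⟩ := ((Over.forget S).mapIso (eqToIso e)).hom.surjective t
  exact ⟨t', by rw [hb]; exact ht⟩

/-- Morphisms with corresponding maps of base objects are neighbourhoods together. -/
theorem exists_isNhd_of_p {𝒲 : AlgSt.Cat S} {y z : 𝒵.obj} {a : y ⟶ z} {y' z' : 𝒲.obj} {a' : y' ⟶ z'}
    (hy : 𝒲.p.obj y' = 𝒵.p.obj y) (hz : 𝒲.p.obj z' = 𝒵.p.obj z)
    (ha : 𝒲.p.map a' = eqToHom hy ≫ 𝒵.p.map a ≫ eqToHom hz.symm) :
    ∀ w : StMod.sch 𝒲 z',
      IsNhd a ((Over.forget S).map (eqToHom hz) w) → IsNhd a' w := by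
  intro w
  let ey := (Over.forget S).mapIso (eqToIso hy)
  let ez := (Over.forget S).mapIso (eqToIso hz)
  have hb : StMod.bmap 𝒲 a' = ey.hom ≫ StMod.bmap 𝒵 a ≫ ez.inv := congrArg CommaMorphism.left ha
  rintro ⟨h1, h2, t, ht⟩
  refine ⟨by rw [hb]; infer_instance, by rw [hb]; infer_instance, ?_⟩
  obtain ⟨t', rfl⟩ := ey.hom.surjective t
  refine ⟨t', ?_⟩
  rw [hb]
  show ez.inv (StMod.bmap 𝒵 a (ey.hom t')) = w
  rw [ht]
  show (ez.hom ≫ ez.inv) w = w
  rw [Iso.hom_inv_id]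
  rfl

end Transfer

section Pairs

variable {𝒳 𝒴 : AlgSt.Cat S} (f : 𝒳 ⥤ᵇ 𝒴) (η : 𝒴.obj) {y : overCat (𝒴.p.obj η) ⥤ᵇ 𝒴}
  (i₀ : y.obj (Over.mk (𝟙 (𝒴.p.obj η))) ≅ η)

/-- The structure morphism of the pair of an object of the fibre product. -/
def pairHom (o : (fp y f).obj) : f.obj o.obj.snd ⟶ η :=
  o.obj.iso.inv ≫ y.map (overToId o.obj.fst) ≫ i₀.hom

/-- The pair of an object of the fibre product. -/
def pairObj (o : (fp y f).obj) : (StMod.fibCat f η).obj :=
  CostructuredArrow.mk (Y := o.obj.snd) (pairHom f η i₀ o)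

theorem pairHom_comp {o o' : (fp y f).obj} (m : o ⟶ o') :
    f.map m.hom.snd ≫ pairHom f η i₀ o' = pairHom f η i₀ o := by
  have hw : y.map m.hom.fst ≫ o'.obj.iso.hom = o.obj.iso.hom ≫ f.map m.hom.snd := m.hom.w
  rw [← cancel_epi o.obj.iso.hom, ← Category.assoc, ← hw]
  simp only [pairHom, Category.assoc, Iso.hom_inv_id_assoc]
  rw [← Functor.map_comp_assoc, toId_comp]

/-- The morphism of pairs of a morphism of the fibre product. -/
def pairMap {o o' : (fp y f).obj} (m : o ⟶ o') : pairObj f η i₀ o ⟶ pairObj f η i₀ o' :=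
  CostructuredArrow.homMk m.hom.snd (pairHom_comp f η i₀ m)

theorem pairMap_comp {o o' o'' : (fp y f).obj} (m : o ⟶ o') (m' : o' ⟶ o'') :
    pairMap f η i₀ (m ≫ m') = pairMap f η i₀ m ≫ pairMap f η i₀ m' :=
  CostructuredArrow.hom_ext _ _ rfl

/-- Neighbourhoods in the fibre product give neighbourhoods of pairs. -/
theorem exists_isNhd_pairMap {o o' : (fp y f).obj} (m : o ⟶ o') (w : StMod.sch 𝒳 o'.obj.snd)
    (h : IsNhd m ((Over.forget S).map (eqToHom (fp_base_eq o').symm) w)) :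
    IsNhd (𝒵 := StMod.fibCat f η) (pairMap f η i₀ m) w := by
  refine exists_isNhd_of_p (𝒲 := StMod.fibCat f η) (y' := pairObj f η i₀ o) (z' := pairObj f η i₀ o')
    (fp_base_eq o).symm (fp_base_eq o').symm ?_ w h
  show 𝒳.p.map m.hom.snd = _
  exact @IsHomLift.fac' _ _ _ _ 𝒳.p _ _ _ _ _ m.hom.snd (fp_isHomLift_snd y f m)

variable (hi₀ : Vert i₀.hom) (h𝒴 : IsFibGrpd 𝒴.p)
include hi₀ h𝒴

theorem exists_obj_of_pair (z : (StMod.fibCat f η).obj) :
    ∃ (χ : y.obj (Over.mk (StMod.baseOver f z.left z.hom)) ≅ f.obj z.left) (hχ : Vert χ.hom),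
      pairHom f η i₀ (fpMk (F := y) (G := f) (Over.mk (StMod.baseOver f z.left z.hom)) z.left χ hχ) =
        z.hom := by
  obtain ⟨χ, hχ, hfac⟩ := grpd_exists_vert_fac h𝒴 z.hom
    (y.map (overToId (Over.mk (StMod.baseOver f z.left z.hom))) ≫ i₀.hom)
    ((y.w_obj _).trans (f.w_obj z.left).symm) (by
      simp [w_map, hi₀.2, StMod.baseOver, overToId, FibCat.overCat, BasedCategory.ofFunctor])
  refine ⟨χ, hχ, ?_⟩
  show χ.inv ≫ _ = _
  rw [← cancel_epi χ.hom, Iso.hom_inv_id_assoc]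
  exact hfac.symm

theorem baseOver_pairHom (o : (fp y f).obj) :
    StMod.baseOver f o.obj.snd (pairHom f η i₀ o) = eqToHom (fp_base_eq o).symm ≫ o.obj.fst.hom := by
  have hv : Vert o.obj.iso.hom := vert_fp_iso o
  have h3 : 𝒴.p.map o.obj.iso.inv = eqToHom hv.base_eq.symm := by
    rw [← cancel_epi (𝒴.p.map o.obj.iso.hom), ← Functor.map_comp, Iso.hom_inv_id,
      CategoryTheory.Functor.map_id, hv.2]
    simp
  simp [StMod.baseOver, pairHom, h3, w_map, hi₀.2, overToId, FibCat.overCat, BasedCategory.ofFunctor]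

theorem exists_pairMap {o o' : (fp y f).obj} (k : pairObj f η i₀ o ⟶ pairObj f η i₀ o') :
    ∃ m : o ⟶ o', pairMap f η i₀ m = k := by
  have hv : Vert o.obj.iso.hom := vert_fp_iso o
  have hv' : Vert o'.obj.iso.hom := vert_fp_iso o'
  have hk : f.map k.left ≫ pairHom f η i₀ o' = pairHom f η i₀ o := CostructuredArrow.w k
  have hb := congrArg (StMod.baseOver f o.obj.snd) hk
  rw [← StMod.map_comp_baseOver] at hb
  erw [baseOver_pairHom f η i₀ hi₀ h𝒴, baseOver_pairHom f η i₀ hi₀ h𝒴] at hb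
  let a : o.obj.fst ⟶ o'.obj.fst := Over.homMk
    (eqToHom (fp_base_eq o) ≫ 𝒳.p.map k.left ≫ eqToHom (fp_base_eq o').symm) (by
      show (_ ≫ _ ≫ _) ≫ o'.obj.fst.hom = o.obj.fst.hom
      simp only [Category.assoc]
      rw [hb]
      simp)
  refine ⟨fpHom a k.left ?_, CostructuredArrow.hom_ext _ _ rfl⟩
  apply grpd_cancel h𝒴 (pairHom f η i₀ o')
  · simp only [Category.assoc, hk]
    simp only [pairHom, Iso.hom_inv_id_assoc]
    rw [← Functor.map_comp_assoc, toId_comp]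
  · simp [w_map, hv.2, hv'.2, a, FibCat.overCat, BasedCategory.ofFunctor]

end Pairs

section Main

variable {𝒳 𝒴 : AlgSt.Cat S}

local notation "K" => Scheme.fppfPrecoverage

theorem isQuasiCompactMor_overMap {A B : Over S} (a : A ⟶ B) [QuasiCompact a.left] :
    AlgSt.IsQuasiCompactMor K (AlgSt.overMap a) :=
  isQuasiCompactMor_of_rep (isAlgStack_overCat A) (isAlgStack_overCat B)
    ((repByAlgSpWith_iff_of_equiv _ (AlgSt.toOverCat A) (AlgSt.toOverCat B) (toOverCat_isEquivOver A)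
      (toOverCat_isEquivOver B) (toOverCatIso a)).2
      (repByAlgSpWith_ofSpMap good_quasiCompact.bc (isAlgSpace_yon A) (isAlgSpace_yon B) _
        (Groth.Agent.AlgSp.isQuasiCompactMor_of_repWith (isAlgSpace_yon B)
          ((AlgSp.repWith_yon_map_iff _ _).2 inferInstance))))

set_option maxHeartbeats 800000 in
/-- Finite coverings over an object with affine scheme. -/
theorem exists_finCover (h𝒳 : AlgSt.IsAlgStack K 𝒳) (h𝒴 : AlgSt.IsAlgStack K 𝒴) (f : 𝒳 ⥤ᵇ 𝒴)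
    (hfqc : AlgSt.IsQuasiCompactMor K f) (hfqs : AlgSt.IsQuasiSeparatedMor f) (η : 𝒴.obj)
    (hη : IsAffine (StMod.sch 𝒴 η)) : Nonempty (FinCover (StMod.fibCat f η)) := by
  haveI : IsAffine (𝒴.p.obj η).left := hη
  obtain ⟨y, i₀, hi₀⟩ := exists_overFunctor h𝒴.isStack.1 η rfl
  have hT := isAlgStack_overCat (𝒴.p.obj η)
  have hM := isAlgStack_fp h𝒴.isStack h𝒴.diag hT h𝒳 y f
  obtain ⟨U, x, hU, hxs, hxsurj⟩ := hfqc _ hT (isQuasiCompact_overCat _) y
  haveI := hU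
  have hUst := isAlgStack_overCat U
  have hlocQ : ∀ {𝒲 : AlgSt.Cat S} {W : Over S} (z : overCat W ⥤ᵇ 𝒲), AlgSt.IsAlgStack K 𝒲 →
      AlgSt.RepByAlgSpWith (AlgSp.LocP @Smooth) z → AlgSt.RepByAlgSpWith AlgSp.IsSurjectiveMor z →
      AlgSt.LocQ (AlgSp.LocP @Flat) z ∧ AlgSt.LocQ (AlgSp.LocP @LocallyOfFinitePresentation) z ∧
        AlgSt.IsSurjective z := fun {𝒲 W} z h𝒲 h1 h2 =>
    ⟨locQ_of_repByAlgSpWith (isSmoothLocalST_locP smoothLocalProp_flat) (isAlgStack_overCat W) h𝒲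
        (repByAlgSpWith_flat_of_smooth h1),
      locQ_of_repByAlgSpWith (isSmoothLocalST_locP smoothLocalProp_lfp) (isAlgStack_overCat W) h𝒲
        (repByAlgSpWith_lfp_of_smooth h1),
      (isSurjective_iff_rep (isAlgStack_overCat W) h𝒲 (repByAlgSp1_of_with h2)).2 h2⟩
  obtain ⟨hx1, hx2, hx3⟩ := hlocQ x hM hxs hxsurj
  let x₀M : (fp y f).obj := x.obj (Over.mk (𝟙 U))
  -- pairs
  obtain ⟨a₀, ⟨ia⟩⟩ := exists_iso_overMap (BasedFunctor.comp x (fpFst y f))
  haveI : QuasiCompact a₀.left := inferInstance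
  have hxqc : AlgSt.IsQuasiCompactMor K x :=
    isQuasiCompactMor_of_comp_of_qs hUst hM hT
      (isQuasiCompactMor_of_iso ia.symm (isQuasiCompactMor_overMap a₀)) (diag_fpFst_mem _ y hfqs)
  have hN := isAlgStack_fp hM.isStack hM.diag hUst hUst x x
  obtain ⟨U₂, x₂, hU₂, hx₂s, hx₂surj⟩ := hxqc _ hUst (isQuasiCompact_overCat U) x
  obtain ⟨hx₂1, hx₂2, hx₂3⟩ := hlocQ x₂ hN hx₂s hx₂surj
  let o₂ : (fp x x).obj := x₂.obj (Over.mk (𝟙 U₂))
  let pM : x.obj o₂.obj.fst ⟶ x₀M := x.map (overToId o₂.obj.fst)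
  let qM : x.obj o₂.obj.fst ⟶ x₀M := o₂.obj.iso.hom ≫ x.map (overToId o₂.obj.snd)
  refine ⟨⟨pairObj f η i₀ x₀M, pairObj f η i₀ (x.obj o₂.obj.fst), pairMap f η i₀ pM,
    pairMap f η i₀ qM, ?_, ?_, fun z w => ?_, fun z a b w => ?_⟩⟩
  · show IsAffine (𝒳.p.obj x₀M.obj.snd).left
    rw [← fp_base_eq x₀M, show (overCat (𝒴.p.obj η)).p.obj x₀M.obj.fst = U from x.w_obj _]
    exact hU
  · show IsAffine (𝒳.p.obj (x.obj o₂.obj.fst).obj.snd).left
    rw [← fp_base_eq, show (overCat (𝒴.p.obj η)).p.obj (x.obj o₂.obj.fst).obj.fst = U₂ from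
      (x.w_obj _).trans (x₂.w_obj _)]
    exact hU₂
  · obtain ⟨χ, hχ, hzM⟩ := exists_obj_of_pair f η i₀ hi₀ h𝒴.isStack.1 z
    let zM : (fp y f).obj := fpMk (F := y) (G := f) (Over.mk (StMod.baseOver f z.left z.hom)) z.left χ hχ
    obtain ⟨R, hR, hl⟩ := exists_lift_sieve hUst hM x hx1 hx2 hx3 zM
    obtain ⟨V, g, b', ν, hg, hν, hn⟩ := exists_nhd hM.isStack.1 hR
      ((Over.forget S).map (eqToHom (fp_base_eq zM).symm) w)
    obtain ⟨c, i, -⟩ := hl g hg b' ν hν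
    refine ⟨pairObj f η i₀ b', CostructuredArrow.homMk ν.hom.snd
      ((congrArg (f.map ν.hom.snd ≫ ·) hzM.symm).trans (pairHom_comp f η i₀ ν)),
      pairMap f η i₀ (i.inv ≫ x.map (overToId c)), ?_⟩
    exact exists_isNhd_pairMap f η i₀ ν w hn
  · obtain ⟨χ, hχ, hzM⟩ := exists_obj_of_pair f η i₀ hi₀ h𝒴.isStack.1 z
    let zM : (fp y f).obj := fpMk (F := y) (G := f) (Over.mk (StMod.baseOver f z.left z.hom)) z.left χ hχ
    let e : pairObj f η i₀ zM ⟶ z := CostructuredArrow.homMk (𝟙 z.left)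
      (show f.map (𝟙 z.left) ≫ z.hom = pairHom f η i₀ zM by
        rw [f.toFunctor.map_id]; exact (Category.id_comp _).trans hzM.symm)
    obtain ⟨aM, haM⟩ := exists_pairMap f η i₀ hi₀ h𝒴.isStack.1 (e ≫ a)
    obtain ⟨bM, hbM⟩ := exists_pairMap f η i₀ hi₀ h𝒴.isStack.1 (e ≫ b)
    have hxid : ∀ {g g' : (overCat U).obj} (k : g ⟶ g'),
        x.map k ≫ x.map (overToId g') = x.map (overToId g) := fun k =>
      (x.toFunctor.map_comp _ _).symm.trans (congrArg x.map (toId_comp k))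
    have hch : ∀ k : zM ⟶ x₀M, ∃ (c' : (overCat U).obj) (χ' : x.obj c' ≅ zM), Vert χ'.hom ∧
        χ'.hom ≫ k = x.map (overToId c') := fun k => by
      let c' : (overCat U).obj := Over.mk ((fp y f).p.map k ≫ eqToHom (x.w_obj (Over.mk (𝟙 U))))
      obtain ⟨χ', hχ', h'⟩ := grpd_exists_vert_fac hM.isStack.1 k (x.map (overToId c'))
        (x.w_obj c') (by rw [w_map]; simp [c', overToId, FibCat.overCat, BasedCategory.ofFunctor, x₀M])
      exact ⟨c', χ', hχ', h'⟩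
    obtain ⟨c', χa, hχa, hfa⟩ := hch aM
    obtain ⟨d', χb, hχb, hfb⟩ := hch bM
    have hji : Vert (χa ≪≫ χb.symm).hom := hχa.comp hχb.inv
    let oN : (fp x x).obj := fpMk c' d' (χa ≪≫ χb.symm) hji
    obtain ⟨R, hR, hl⟩ := exists_lift_sieve (isAlgStack_overCat U₂) hN x₂ hx₂1 hx₂2 hx₂3 oN
    have hbase : (fp x x).p.obj oN = (fp y f).p.obj zM := (x.w_obj c').symm.trans hχa.base_eq
    obtain ⟨V, g, o', ν, hg, hν, hn⟩ := exists_nhd hN.isStack.1 hR ((Over.forget S).map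
      (eqToHom ((fp_base_eq zM).symm.trans hbase.symm)) w)
    obtain ⟨e₂, i, -⟩ := hl g hg o' ν hν
    let m : o' ⟶ o₂ := i.inv ≫ x₂.map (overToId e₂)
    let cM : x.obj o'.obj.fst ⟶ zM := x.map ν.hom.fst ≫ χa.hom
    let dM : x.obj o'.obj.fst ⟶ x.obj o₂.obj.fst := x.map m.hom.fst
    have hcM : IsNhd cM ((Over.forget S).map (eqToHom (fp_base_eq zM).symm) w) := by
      refine exists_isNhd_of_p (𝒵 := fp x x) (a := ν) (x.w_obj o'.obj.fst) hbase.symm ?_ _ ?_
      · rw [Functor.map_comp, w_map, hχa.2]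
        simp only [Category.assoc, eqToHom_trans]
        rfl
      · have key : ∀ {A B C : Over S} (h : A = B) (h' : B = C) (w : ((Over.forget S).obj A : Scheme.{u})),
            (Over.forget S).map (eqToHom h') ((Over.forget S).map (eqToHom h) w) =
              (Over.forget S).map (eqToHom (h.trans h')) w := by
          intro A B C h h' w; subst h h'; simp
        exact (key (fp_base_eq zM).symm hbase.symm w).symm ▸ hn
    refine ⟨pairObj f η i₀ (x.obj o'.obj.fst), pairMap f η i₀ cM ≫ e, pairMap f η i₀ dM, ?_, ?_, ?_⟩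
    · have h := exists_isNhd_pairMap f η i₀ cM w hcM
      have he : StMod.bmap (StMod.fibCat f η) (pairMap f η i₀ cM ≫ e) =
          StMod.bmap (StMod.fibCat f η) (pairMap f η i₀ cM) := by
        show StMod.bmap 𝒳 (cM.hom.snd ≫ 𝟙 _) = StMod.bmap 𝒳 cM.hom.snd
        rw [Category.comp_id]
      unfold IsNhd
      rw [he]
      exact h
    · rw [Category.assoc, ← haM, ← pairMap_comp, ← pairMap_comp]
      congr 1
      simp only [cM, dM, pM, Category.assoc]
      erw [hxid, hfa]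
      exact (hxid _).symm
    · rw [Category.assoc, ← hbM, ← pairMap_comp, ← pairMap_comp]
      congr 1
      have hwν : x.map ν.hom.fst ≫ (χa.hom ≫ χb.inv) = o'.obj.iso.hom ≫ x.map ν.hom.snd := ν.hom.w
      have hwm : x.map m.hom.fst ≫ o₂.obj.iso.hom = o'.obj.iso.hom ≫ x.map m.hom.snd := m.hom.w
      have hb2 : bM = χb.inv ≫ x.map (overToId d') := by rw [← hfb, Iso.inv_hom_id_assoc]
      simp only [cM, dM, qM, hb2]
      rw [← Category.assoc, hwm, Category.assoc]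
      erw [hxid]
      rw [← Category.assoc, Category.assoc (x.map ν.hom.fst), hwν, Category.assoc]
      exact congrArg (fun t => o'.obj.iso.hom ≫ t) (hxid _).symm

end Main

end Groth.Agent.StGen
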