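import Groth.Agent.StGen.FinCover
import Groth.Agent.StDesc.BC
import Groth.Agent.HilbLoc.ModHom

/-!
Morphisms of quasi-coherent modules on a category fibred in groupoids from a morphism on a covering object.
-/

set_option autoImplicit false
set_option linter.style.haveILetI false
set_option linter.unusedSectionVars false
set_option backward.isDefEq.respectTransparency false
set_option backward.isDefEq.respectTransparency.types false

universe u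

open CategoryTheory CategoryTheory.Limits AlgebraicGeometry TopologicalSpace Opposite
open Groth.Agent.QCoh Groth.Agent.StDesc

noncomputable section

namespace Groth.Agent.StGen

variable {S : Scheme.{u}} {𝒵 : AlgSt.Cat S} {G H : StMod.Mod 𝒵}

/-- Morphisms out of the restriction of a cartesian module are determined on pulled back sections. -/
theorem ext_of_pb (hG : G.IsCartesian) {y x : 𝒵.obj} (φ : y ⟶ x) {P : (StMod.sch 𝒵 y).Modules}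
    (g₁ g₂ : G.obj y ⟶ P)
    (h : ∀ (U : (StMod.sch 𝒵 x).Opens) (s : Γ(G.obj x, U)),
      g₁.app _ (pb G φ (StMod.bmap 𝒵 φ ⁻¹ᵁ U) le_rfl s) =
        g₂.app _ (pb G φ (StMod.bmap 𝒵 φ ⁻¹ᵁ U) le_rfl s)) : g₁ = g₂ := by
  obtain ⟨e, he⟩ := exists_pb_eq hG φ
  rw [← cancel_epi e.hom]
  apply ((Scheme.Modules.pullbackPushforwardAdjunction (StMod.bmap 𝒵 φ)).homEquiv _ _).injective
  rw [Adjunction.homEquiv_unit, Adjunction.homEquiv_unit]
  apply Scheme.Modules.hom_ext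
  intro U
  refine ConcreteCategory.hom_ext _ _ fun (s : Γ(G.obj x, U)) => ?_
  have h' := h U s
  rw [he _ le_rfl s] at h'
  have e1 : LimTop.unitSec (StMod.bmap 𝒵 φ) (G.obj x) (le_rfl : StMod.bmap 𝒵 φ ⁻¹ᵁ U ≤ _) s =
      ((Scheme.Modules.pullbackPushforwardAdjunction (StMod.bmap 𝒵 φ)).unit.app (G.obj x)).app U s :=
    res_self _ le_rfl _
  rw [e1] at h'
  exact h'

/-- A morphism at the target of a morphism induces one at the source. -/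
theorem exists_pullHom (hG : G.IsCartesian) (hH : H.IsCartesian) {y x : 𝒵.obj} (φ : y ⟶ x)
    (g : G.obj x ⟶ H.obj x) :
    ∃ w : G.obj y ⟶ H.obj y, ∀ {U : (StMod.sch 𝒵 x).Opens} (V : (StMod.sch 𝒵 y).Opens)
      (hV : V ≤ StMod.bmap 𝒵 φ ⁻¹ᵁ U) (s : Γ(G.obj x, U)),
      w.app V (pb G φ V hV s) = pb H φ V hV (g.app U s) := by
  obtain ⟨eG, hG'⟩ := exists_pb_eq hG φ
  obtain ⟨eH, hH'⟩ := exists_pb_eq hH φ
  refine ⟨eG.inv ≫ (Scheme.Modules.pullback (StMod.bmap 𝒵 φ)).map g ≫ eH.hom, fun {U} V hV s => ?_⟩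
  rw [hG', hH', ← LimTop.unitSec_map (StMod.bmap 𝒵 φ) (G.obj x) hV g s]
  show eH.hom.app V (((Scheme.Modules.pullback (StMod.bmap 𝒵 φ)).map g).app V
    ((eG.hom ≫ eG.inv).app V (LimTop.unitSec (StMod.bmap 𝒵 φ) (G.obj x) hV s))) = _
  rw [Iso.hom_inv_id]
  rfl

theorem bmap_id_le {x : 𝒵.obj} (V U : (StMod.sch 𝒵 x).Opens) (h : V ≤ U) :
    V ≤ StMod.bmap 𝒵 (𝟙 x) ⁻¹ᵁ U := by rw [StMod.bmap_id]; exact h

theorem appLE_id_apply {x : 𝒵.obj} {V U : (StMod.sch 𝒵 x).Opens} (h : V ≤ U) (r : Γ(StMod.sch 𝒵 x, U)) :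
    (StMod.bmap 𝒵 (𝟙 x)).appLE U V (bmap_id_le V U h) r = rres h r := by
  have key : ∀ {g : StMod.sch 𝒵 x ⟶ StMod.sch 𝒵 x} (_ : g = 𝟙 _) (hg : V ≤ g ⁻¹ᵁ U),
      g.appLE U V hg r = rres h r := by
    intro g hg hV; subst hg; simp [Scheme.Hom.appLE]
  exact key (StMod.bmap_id x) _

/-- Sections obtained by base change are generated by restricted sections. -/
theorem bc_induction {y x : 𝒵.obj} {φ : y ⟶ x} {U : (StMod.sch 𝒵 x).Opens} {V : (StMod.sch 𝒵 y).Opens}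
    {h : V ≤ StMod.bmap 𝒵 φ ⁻¹ᵁ U} (b : BC G φ U V h) (P : Γ(G.obj y, V) → Prop) (h0 : P 0)
    (hpb : ∀ s, P (pb G φ V h s)) (hsmul : ∀ (r : Γ(StMod.sch 𝒵 y, V)) t, P t → P (r • t))
    (hadd : ∀ a c, P a → P c → P (a + c)) (t : Γ(G.obj y, V)) : P t := by
  letI := ((StMod.bmap 𝒵 φ).appLE U V h).hom.toAlgebra
  letI := Module.compHom Γ(G.obj y, V) ((StMod.bmap 𝒵 φ).appLE U V h).hom
  haveI : IsScalarTower Γ(StMod.sch 𝒵 x, U) Γ(StMod.sch 𝒵 y, V) Γ(G.obj y, V) :=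
    IsScalarTower.of_algebraMap_smul fun _ _ => rfl
  exact IsBaseChange.inductionOn (show IsBaseChange Γ(StMod.sch 𝒵 y, V)
    (rawLin (StMod.bmap 𝒵 φ) (G.map φ rfl) U V h) from b) t P h0 hpb hsmul hadd

/-- Morphisms on affine objects are determined by global sections. -/
theorem hom_ext_top (hG : StMod.isQCoh 𝒵 G) {x : 𝒵.obj} [IsAffine (StMod.sch 𝒵 x)]
    {P : (StMod.sch 𝒵 x).Modules} (g₁ g₂ : G.obj x ⟶ P)
    (h : ∀ s : Γ(G.obj x, ⊤), g₁.app ⊤ s = g₂.app ⊤ s) : g₁ = g₂ := by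
  apply Scheme.Modules.hom_ext
  intro U
  refine ConcreteCategory.hom_ext _ _ fun (s : Γ(G.obj x, U)) => ?_
  refine QCoh.eq_of_locally_eq P (fun W : {W : (StMod.sch 𝒵 x).affineOpens // W.1 ≤ U} => W.2)
    (CohAff.le_iSup_affine_le U) _ _ fun W => ?_
  rw [← app_res g₁, ← app_res g₂]
  have b := bc_of_qcoh hG (𝟙 x) (U := ⊤) (bmap_id_le W.1.1 ⊤ le_top) (isAffineOpen_top _) W.1.2
  refine bc_induction b (fun t => g₁.app W.1.1 t = g₂.app W.1.1 t) (by simp) (fun t => ?_)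
    (fun r t ht => ?_) (fun a c ha hc => by rw [map_add, map_add, ha, hc]) _
  · show g₁.app _ (pb G (𝟙 x) W.1.1 _ t) = g₂.app _ (pb G (𝟙 x) W.1.1 _ t)
    rw [pb_id G _ le_top, app_res, app_res, h]
  · rw [Scheme.Modules.Hom.app_smul, Scheme.Modules.Hom.app_smul, ht]

/-- A linear map on global sections over an affine object is induced by a morphism. -/
theorem exists_hom_of_top (hG : StMod.isQCoh 𝒵 G) {x : 𝒵.obj} [IsAffine (StMod.sch 𝒵 x)]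
    (P : (StMod.sch 𝒵 x).Modules) (h : Γ(G.obj x, ⊤) →ₗ[Γ(StMod.sch 𝒵 x, ⊤)] Γ(P, ⊤)) :
    ∃ g : G.obj x ⟶ P, ∀ s, g.app ⊤ s = h s := by
  have key : ∀ W : (StMod.sch 𝒵 x).affineOpens, ∃ f : Γ(G.obj x, W.1) →ₗ[Γ(StMod.sch 𝒵 x, W.1)] Γ(P, W.1),
      ∀ s, f (res (G.obj x) le_top s) = res P le_top (h s) := by
    intro W
    let g := StMod.bmap 𝒵 (𝟙 x)
    have hW := bmap_id_le W.1 ⊤ (le_top : W.1 ≤ ⊤)
    letI := (g.appLE ⊤ W.1 hW).hom.toAlgebra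
    letI := Module.compHom Γ(G.obj x, W.1) (g.appLE ⊤ W.1 hW).hom
    letI := Module.compHom Γ(P, W.1) (g.appLE ⊤ W.1 hW).hom
    haveI : IsScalarTower Γ(StMod.sch 𝒵 x, ⊤) Γ(StMod.sch 𝒵 x, W.1) Γ(G.obj x, W.1) :=
      IsScalarTower.of_algebraMap_smul fun _ _ => rfl
    haveI : IsScalarTower Γ(StMod.sch 𝒵 x, ⊤) Γ(StMod.sch 𝒵 x, W.1) Γ(P, W.1) :=
      IsScalarTower.of_algebraMap_smul fun _ _ => rfl
    have b : IsBaseChange Γ(StMod.sch 𝒵 x, W.1) (rawLin g (G.map (𝟙 x) rfl) ⊤ W.1 hW) :=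
      bc_of_qcoh hG (𝟙 x) (U := ⊤) hW (isAffineOpen_top _) W.2
    let f₀ : Γ(G.obj x, ⊤) →ₗ[Γ(StMod.sch 𝒵 x, ⊤)] Γ(P, W.1) :=
      { toFun := fun s => res P le_top (h s)
        map_add' := fun a c => by rw [map_add, map_add]
        map_smul' := fun r s => by
          rw [map_smul, res_smul]
          exact congrArg (· • _) (appLE_id_apply le_top r).symm }
    refine ⟨b.lift f₀, fun s => ?_⟩
    have := b.lift_eq f₀ s
    rw [show rawLin g (G.map (𝟙 x) rfl) ⊤ W.1 hW s = res (G.obj x) le_top s from pb_id G hW le_top s] at this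
    exact this
  choose f hf using key
  obtain ⟨ψ, hψ⟩ := HilbLoc.exists_hom_of_affine (M := G.obj x) (N := P) (fun W => (f W).toAddMonoidHom)
    (fun W r s => (f W).map_smul r s) (fun W W' hle s => by
      have b := bc_of_qcoh hG (𝟙 x) (U := ⊤) (bmap_id_le W.1 ⊤ le_top) (isAffineOpen_top _) W.2
      refine bc_induction b (fun t => res P hle (f W t) = f W' (res (G.obj x) hle t))
        (by simp) (fun t => ?_) (fun r t ht => ?_) (fun a c ha hc => by simp only [map_add, ha, hc]) _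
      · show res P hle (f W (pb G (𝟙 x) W.1 _ t)) = f W' (res (G.obj x) hle (pb G (𝟙 x) W.1 _ t))
        rw [pb_id G _ le_top, hf, res_res, res_res, hf]
      · rw [map_smul, res_smul, res_smul, ht, map_smul])
  refine ⟨ψ, fun s => ?_⟩
  rw [show ψ.app ⊤ s = f ⟨⊤, isAffineOpen_top _⟩ s from hψ ⟨⊤, isAffineOpen_top _⟩ s]
  have := hf ⟨⊤, isAffineOpen_top _⟩ s
  rwa [res_self, res_self] at this

/-- Descent of morphisms along a finite covering. -/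
theorem exists_hom_of_cover (h𝒵 : FibCat.IsFibGrpd 𝒵.p) (hG : StMod.isQCoh 𝒵 G) (hH : StMod.isQCoh 𝒵 H)
    (C : FinCover 𝒵) (g : G.obj C.x₀ ⟶ H.obj C.x₀)
    (hc : ∀ (t : Γ(G.obj C.x₁, ⊤)), ∀ w₁ w₂ : G.obj C.x₁ ⟶ H.obj C.x₁,
      (∀ {U : (StMod.sch 𝒵 C.x₀).Opens} (V : (StMod.sch 𝒵 C.x₁).Opens)
        (hV : V ≤ StMod.bmap 𝒵 C.p ⁻¹ᵁ U) (s : Γ(G.obj C.x₀, U)),
        w₁.app V (pb G C.p V hV s) = pb H C.p V hV (g.app U s)) →
      (∀ {U : (StMod.sch 𝒵 C.x₀).Opens} (V : (StMod.sch 𝒵 C.x₁).Opens)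
        (hV : V ≤ StMod.bmap 𝒵 C.q ⁻¹ᵁ U) (s : Γ(G.obj C.x₀, U)),
        w₂.app V (pb G C.q V hV s) = pb H C.q V hV (g.app U s)) →
      w₁.app ⊤ t = w₂.app ⊤ t) :
    ∃ φ : G ⟶ H, φ.app C.x₀ = g := by
  haveI := C.aff₁
  choose W hW using fun (y : 𝒵.obj) (b : y ⟶ C.x₀) => exists_pullHom hG.1 hH.1 b g
  have hcomp : ∀ {y' y : 𝒵.obj} (c : y' ⟶ y) (b : y ⟶ C.x₀) {U : (StMod.sch 𝒵 y).Opens}
      (V : (StMod.sch 𝒵 y').Opens) (hV : V ≤ StMod.bmap 𝒵 c ⁻¹ᵁ U) (t : Γ(G.obj y, U)),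
      (W y' (c ≫ b)).app V (pb G c V hV t) = pb H c V hV ((W y b).app U t) := by
    intro y' y c b
    obtain ⟨w, hw⟩ := exists_pullHom hG.1 hH.1 c (W y b)
    have : W y' (c ≫ b) = w := ext_of_pb hG.1 (c ≫ b) _ _ fun U s => by
      have hV : StMod.bmap 𝒵 (c ≫ b) ⁻¹ᵁ U ≤ StMod.bmap 𝒵 c ⁻¹ᵁ (StMod.bmap 𝒵 b ⁻¹ᵁ U) := by
        rw [StMod.bmap_comp]; exact le_rfl
      rw [hW y' (c ≫ b), ← pb_pb G c b _ le_rfl hV le_rfl, hw, hW y b, pb_pb H c b _ le_rfl hV le_rfl]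
    intro U V hV t
    rw [this]
    exact hw V hV t
  have hpq : W C.x₁ C.p = W C.x₁ C.q :=
    hom_ext_top hG _ _ fun t => hc t _ _ (fun {U} => hW C.x₁ C.p (U := U)) (fun {U} => hW C.x₁ C.q (U := U))
  have hind : ∀ (y : 𝒵.obj) (b b' : y ⟶ C.x₀), W y b = W y b' := by
    intro y b b'
    apply Scheme.Modules.hom_ext
    intro U
    refine ConcreteCategory.hom_ext _ _ fun (t : Γ(G.obj y, U)) => ext_flat hH.1 _ _ fun z _ => ?_
    obtain ⟨y₁, k, d, ⟨hk1, -, hk3⟩, hdp, hdq⟩ := C.cover₂ y b b' z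
    refine ⟨y₁, k, hk1, hk3, ?_⟩
    have e : W y₁ (k ≫ b) = W y₁ (k ≫ b') := by
      rw [← hdp, ← hdq]
      refine ext_of_pb hG.1 d _ _ fun U' s' => ?_
      rw [hcomp, hcomp, hpq]
    rw [← hcomp k b, ← hcomp k b', e]
  have key : ∀ (z : 𝒵.obj) (U : (StMod.sch 𝒵 z).Opens) (s : Γ(G.obj z, U)),
      ∃ s' : Γ(H.obj z, U), ∀ (y : 𝒵.obj) (a : y ⟶ z) (b : y ⟶ C.x₀) (V : (StMod.sch 𝒵 y).Opens)
        (h : V ≤ StMod.bmap 𝒵 a ⁻¹ᵁ U), pb H a V h s' = (W y b).app V (pb G a V h s) := by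
    intro z U s
    have hcmp : ∀ {y y' : 𝒵.obj} (a : y ⟶ z) (a' : y' ⟶ z) (b : y ⟶ C.x₀) (b' : y' ⟶ C.x₀) {ζ : 𝒵.obj}
        (c : ζ ⟶ y) (c' : ζ ⟶ y') (_ : c ≫ a = c' ≫ a') (V : (StMod.sch 𝒵 y).Opens)
        (V' : (StMod.sch 𝒵 y').Opens) (h : V ≤ StMod.bmap 𝒵 a ⁻¹ᵁ U) (h' : V' ≤ StMod.bmap 𝒵 a' ⁻¹ᵁ U)
        (X : (StMod.sch 𝒵 ζ).Opens) (hX : X ≤ StMod.bmap 𝒵 c ⁻¹ᵁ V) (hX' : X ≤ StMod.bmap 𝒵 c' ⁻¹ᵁ V'),
        pb H c X hX ((W y b).app V (pb G a V h s)) = pb H c' X hX' ((W y' b').app V' (pb G a' V' h' s)) := by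
      intro y y' a a' b b' ζ c c' hca V V' h h' X hX hX'
      have h3 : X ≤ StMod.bmap 𝒵 (c ≫ a) ⁻¹ᵁ U := fun r hr => by
        show StMod.bmap 𝒵 (c ≫ a) r ∈ U
        rw [StMod.bmap_comp]
        exact h (hX hr)
      rw [← hcomp c b, ← hcomp c' b', hind ζ (c ≫ b) (c' ≫ b'), pb_pb G c a X h hX h3,
        pb_pb G c' a' X h' hX' (hca ▸ h3), pb_congr G hca]
    choose y a b hn using C.cover z
    obtain ⟨s', hs'⟩ := exists_glue_flat h𝒵 hH (U := U) (κ := StMod.sch 𝒵 z) a (fun w => (hn w).1)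
      (fun w => (hn w).2.1) (fun w _ => ⟨w, (hn w).2.2⟩)
      (fun w => (W (y w) (b w)).app _ (pb G (a w) _ le_rfl s))
      (fun ζ j k c c' hcc X hX hX' => hcmp (a j) (a k) (b j) (b k) c c' hcc _ _ le_rfl le_rfl X hX hX')
    refine ⟨s', fun y' a' b' V h => ext_flat hH.1 _ _ fun q hq => ?_⟩
    let w₀ := StMod.bmap 𝒵 a' q
    obtain ⟨t₀, ht₀⟩ := (hn w₀).2.2
    haveI := (hn w₀).1
    obtain ⟨ζ, c, e, hc'⟩ := exists_lift_mor h𝒵 y' (pullback.fst (StMod.bmap 𝒵 a') (StMod.bmap 𝒵 (a w₀)))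
    obtain ⟨c₂, hc₂, hc₂b⟩ := exists_fac h𝒵 (a w₀) (c ≫ a') (e.hom ≫ pullback.snd _ _) (by
      rw [StMod.bmap_comp, hc', Category.assoc, Category.assoc, pullback.condition])
    obtain ⟨p, hp, -⟩ := Scheme.Pullback.exists_preimage_pullback (f := StMod.bmap 𝒵 a')
      (g := StMod.bmap 𝒵 (a w₀)) q t₀ ht₀.symm
    refine ⟨ζ, c, by rw [hc']; infer_instance, hp ▸ range_of_bmap c e _ hc' p, ?_⟩
    have h3 : StMod.bmap 𝒵 c ⁻¹ᵁ V ≤ StMod.bmap 𝒵 (c ≫ a') ⁻¹ᵁ U := fun r hr => by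
      show StMod.bmap 𝒵 (c ≫ a') r ∈ U
      rw [StMod.bmap_comp]
      exact h hr
    have h4 : StMod.bmap 𝒵 c ⁻¹ᵁ V ≤ StMod.bmap 𝒵 c₂ ⁻¹ᵁ (StMod.bmap 𝒵 (a w₀) ⁻¹ᵁ U) := fun r hr => by
      show StMod.bmap 𝒵 (a w₀) (StMod.bmap 𝒵 c₂ r) ∈ U
      have h2 : StMod.bmap 𝒵 (c ≫ a') r ∈ U := h3 hr
      rw [← hc₂, StMod.bmap_comp] at h2
      exact h2
    rw [hcmp a' (a w₀) b' (b w₀) c c₂ hc₂.symm V _ h le_rfl _ le_rfl h4, ← hs' w₀,
      pb_pb H c a' _ h le_rfl h3, pb_pb H c₂ (a w₀) _ le_rfl h4 (hc₂ ▸ h3), pb_congr H hc₂.symm]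
  choose f hf using key
  have huniq : ∀ (z : 𝒵.obj) (U : (StMod.sch 𝒵 z).Opens) (s : Γ(G.obj z, U)) (t : Γ(H.obj z, U)),
      (∀ (y : 𝒵.obj) (a : y ⟶ z) (b : y ⟶ C.x₀) (V : (StMod.sch 𝒵 y).Opens)
        (h : V ≤ StMod.bmap 𝒵 a ⁻¹ᵁ U), pb H a V h t = (W y b).app V (pb G a V h s)) → t = f z U s := by
    intro z U s t ht
    refine ext_flat hH.1 _ _ fun w _ => ?_
    obtain ⟨y, a, b, hn⟩ := C.cover z w
    exact ⟨y, a, hn.1, hn.2.2, (ht y a b _ le_rfl).trans (hf z U s y a b _ le_rfl).symm⟩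
  let app : ∀ z : 𝒵.obj, G.obj z ⟶ H.obj z := fun z =>
    ⟨PresheafOfModules.homMk
      { app := fun U => AddCommGrpCat.ofHom
          (show Γ(G.obj z, U.unop) →+ Γ(H.obj z, U.unop) from
            AddMonoidHom.mk' (f z U.unop) fun p q => (huniq z _ _ _ fun y a b V h => by
              rw [map_add, map_add, map_add, hf z U.unop p y a b, hf z U.unop q y a b]).symm)
        naturality := fun {U V} i => by
          refine ConcreteCategory.hom_ext _ _ fun (s : Γ(G.obj z, U.unop)) => ?_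
          refine (huniq z V.unop (res (G.obj z) (leOfHom i.unop) s)
            (res (H.obj z) (leOfHom i.unop) (f z U.unop s)) fun y a b X h => ?_).symm
          rw [pb_res, pb_res, hf z U.unop s y a b] }
      (fun U r (s : Γ(G.obj z, U.unop)) => (huniq z U.unop ((show Γ(StMod.sch 𝒵 z, U.unop) from r) • s)
        ((show Γ(StMod.sch 𝒵 z, U.unop) from r) • f z U.unop s) fun y a b X h => by
          rw [pb_smul, pb_smul, hf z U.unop s y a b, Scheme.Modules.Hom.app_smul]).symm)⟩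
  let φ : G ⟶ H :=
    { app := app
      comm := fun {z' z} ψ g' hg => by
        subst hg
        apply Scheme.Modules.hom_ext
        intro U
        refine ConcreteCategory.hom_ext _ _ fun (s : Γ(G.obj z, U)) => ?_
        refine (huniq z' (StMod.bmap 𝒵 ψ ⁻¹ᵁ U) ((G.map ψ rfl).app U s) ((H.map ψ rfl).app U (f z U s))
          fun y a b X h => ?_).symm
        have h' : X ≤ StMod.bmap 𝒵 (a ≫ ψ) ⁻¹ᵁ U := by rw [StMod.bmap_comp]; exact h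
        have e : ∀ (K : StMod.Mod 𝒵) (t : Γ(K.obj z, U)),
            pb K a X h ((K.map ψ rfl).app U t) = pb K (a ≫ ψ) X h' t := fun K t => by
          refine Eq.trans ?_ (pb_pb K a ψ X (V := StMod.bmap 𝒵 ψ ⁻¹ᵁ U) le_rfl h h' t)
          exact congrArg (pb K a X h) (res_self _ le_rfl _).symm
        rw [e, e, hf z U s y (a ≫ ψ) b] }
  refine ⟨φ, ?_⟩
  have h1 : W C.x₀ (𝟙 C.x₀) = g := ext_of_pb hG.1 (𝟙 C.x₀) _ _ fun U s => by
    rw [hW, pb_id G le_rfl (by rw [StMod.bmap_id]; exact le_rfl), pb_id H le_rfl (by rw [StMod.bmap_id]; exact le_rfl),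
      app_res]
  apply Scheme.Modules.hom_ext
  intro U
  refine ConcreteCategory.hom_ext _ _ fun (s : Γ(G.obj C.x₀, U)) => ?_
  have hU := bmap_id_le U U (le_refl U)
  have := hf C.x₀ U s C.x₀ (𝟙 _) (𝟙 _) U hU
  rw [pb_id H hU le_rfl, pb_id G hU le_rfl, res_self, res_self, h1] at this
  exact this

end Groth.Agent.StGen
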