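import Groth.Agent.StGen.Transfer

/-!
Generating families relative to the projection from a fibre product of stacks give generating families
over the images of objects.
-/

set_option autoImplicit false
set_option linter.style.haveILetI false
set_option linter.unusedSectionVars false
set_option backward.isDefEq.respectTransparency false
set_option backward.isDefEq.respectTransparency.types false

universe u

open CategoryTheory CategoryTheory.Limits AlgebraicGeometry Opposite FibCat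
open Groth.Agent.StDesc Groth.Agent.StFib

noncomputable section

namespace Groth.Agent.StGen

variable {S : Scheme.{u}} {𝒳 𝒴 𝒵 : AlgSt.Cat S}

/-- Generating families transfer along a functor which is a local equivalence. -/
theorem isGenFam_of_locEquiv {π : 𝒳 ⥤ᵇ 𝒴} (L : LocEquiv π) {ι : Type*} (E : ι → StMod.QCoh 𝒴)
    (E' : ι → StMod.QCoh 𝒳) (e : ∀ i, StMod.Mod.comap π (E i).obj ≅ (E' i).obj)
    (hgen : StMod.IsGenFam E') : StMod.IsGenFam E := by
  rw [StMod.isGenFam_iff]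
  intro M N v hv
  refine InducedCategory.hom_ext (comap_faithful L N.property.1 v.hom (0 : M.obj ⟶ N.obj) ?_)
  have h0 : (StMod.comapQ π).map v = 0 := by
    refine (StMod.isGenFam_iff _).1 hgen _ fun i φ => ?_
    obtain ⟨φ₀, hφ₀⟩ := comap_full L (G := (E i).obj) M.property ((e i).hom ≫ φ)
    rw [← cancel_epi (e i).hom, comp_zero, ← Category.assoc, ← hφ₀]
    refine ((StMod.comapFunctor π).map_comp φ₀ v.hom).symm.trans ?_
    rw [show φ₀ ≫ v.hom = 0 from hv i φ₀]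
    exact (StMod.comapFunctor π).map_zero _ _
  exact (congrArg InducedCategory.Hom.hom h0).trans ((StMod.comapFunctor π).map_zero _ _).symm

variable (f : 𝒳 ⥤ᵇ 𝒴) (w : 𝒵 ⥤ᵇ 𝒴) (ζ : 𝒵.obj)

/-- The comparison from the objects of a fibre product over an object to the objects over its image. -/
def toFib₂ : StMod.fibCat (fpSnd f w) ζ ⥤ᵇ StMod.fibCat f (w.obj ζ) where
  toFunctor :=
    { obj := fun x => CostructuredArrow.mk (Y := x.left.obj.fst) (x.left.obj.iso.hom ≫ w.map x.hom)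
      map := fun {x x'} k => CostructuredArrow.homMk k.left.hom.fst (by
        have hw : f.map k.left.hom.fst ≫ x'.left.obj.iso.hom = x.left.obj.iso.hom ≫ w.map k.left.hom.snd :=
          k.left.hom.w
        have hk : k.left.hom.snd ≫ x'.hom = x.hom := CostructuredArrow.w k
        show f.map k.left.hom.fst ≫ x'.left.obj.iso.hom ≫ w.map x'.hom = x.left.obj.iso.hom ≫ w.map x.hom
        rw [← Category.assoc, hw, Category.assoc, ← Functor.map_comp, hk])
      map_id := fun x => CostructuredArrow.hom_ext _ _ rfl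
      map_comp := fun k k' => CostructuredArrow.hom_ext _ _ rfl }
  w := rfl

variable {f w ζ}

theorem exists_toFib₂_obj (h𝒵 : IsFibGrpd 𝒵.p) (h𝒴 : IsFibGrpd 𝒴.p)
    (z : (StMod.fibCat f (w.obj ζ)).obj) :
    ∃ (x : (StMod.fibCat (fpSnd f w) ζ).obj) (g : (toFib₂ f w ζ).obj x ⟶ z),
      (StMod.fibCat f (w.obj ζ)).p.IsHomLift (𝟙 ((StMod.fibCat f (w.obj ζ)).p.obj z)) g := by
  obtain ⟨b, e, β, hβ⟩ := grpd_exists_lift h𝒵 ζ
    (eqToHom (f.w_obj z.left).symm ≫ 𝒴.p.map z.hom ≫ eqToHom (w.w_obj ζ))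
  obtain ⟨χ, hχ, hfac⟩ := grpd_exists_vert_fac h𝒴 (w.map β) z.hom
    ((f.w_obj z.left).trans ((w.w_obj b).trans e).symm) (by simp [w_map, hβ])
  refine ⟨CostructuredArrow.mk (Y := fpMk z.left b χ hχ) (show (fpSnd f w).obj (fpMk z.left b χ hχ) ⟶ ζ from β),
    CostructuredArrow.homMk (𝟙 z.left) ?_, ?_⟩
  · show f.map (𝟙 z.left) ≫ z.hom = χ.hom ≫ w.map β
    rw [CategoryTheory.Functor.map_id, Category.id_comp, hfac]
  · exact IsHomLift.of_fac' _ _ _ rfl rfl (by
      show 𝒳.p.map (𝟙 z.left) = eqToHom rfl ≫ 𝟙 (𝒳.p.obj z.left) ≫ eqToHom rfl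
      simp)

theorem exists_toFib₂_map (h𝒵 : IsFibGrpd 𝒵.p) (h𝒴 : IsFibGrpd 𝒴.p)
    {x x' : (StMod.fibCat (fpSnd f w) ζ).obj}
    (k : (toFib₂ f w ζ).obj x ⟶ (toFib₂ f w ζ).obj x') : ∃ m : x ⟶ x', (toFib₂ f w ζ).map m = k := by
  have hv := vert_fp_iso x.left
  have hv' := vert_fp_iso x'.left
  have hk : f.map k.left ≫ x'.left.obj.iso.hom ≫ w.map x'.hom = x.left.obj.iso.hom ≫ w.map x.hom :=
    CostructuredArrow.w k
  let β : x.left.obj.snd ⟶ ζ := x.hom
  let β' : x'.left.obj.snd ⟶ ζ := x'.hom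
  have hb := congrArg (fun m => 𝒴.p.map m) hk
  simp [w_map, hv.2, hv'.2] at hb
  obtain ⟨a, ha, haf⟩ := grpd_exists_fac h𝒵 β' β
    (eqToHom (fp_base_eq x.left).symm ≫ 𝒳.p.map k.left ≫ eqToHom (fp_base_eq x'.left)) (by
      simp only [Category.assoc]
      have := congrArg (fun m => eqToHom ((w.w_obj x.left.obj.snd).symm.trans hv.base_eq.symm) ≫ m ≫
        eqToHom (w.w_obj ζ)) hb
      simpa [β, β'] using this)
  have hm : f.map k.left ≫ x'.left.obj.iso.hom = x.left.obj.iso.hom ≫ w.map a := by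
    apply grpd_cancel h𝒴 (w.map β')
    · rw [Category.assoc, Category.assoc, ← Functor.map_comp, haf]
      exact hk
    · simp [w_map, hv.2, hv'.2, ha]
  exact ⟨CostructuredArrow.homMk (fpHom k.left a hm) haf, CostructuredArrow.hom_ext _ _ rfl⟩

/-- The comparison is a local equivalence. -/
theorem locEquiv_toFib₂ (h𝒳 : IsFibGrpd 𝒳.p) (h𝒵 : IsFibGrpd 𝒵.p) (h𝒴 : IsFibGrpd 𝒴.p) :
    LocEquiv (toFib₂ f w ζ) := by
  have hfp : IsFibGrpd (fp f w).p := isFibGrpd_fp h𝒳 h𝒵 h𝒴 f w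
  have hsrc := isFibGrpd_fibCat (fpSnd f w) hfp ζ
  have hfib := isFibGrpd_fibCat f h𝒳 (w.obj ζ)
  refine ⟨hsrc, hfib, fun z => ⟨⊤, (QuotSh.J _ S).top_mem _, fun V g _ => ?_⟩,
    fun o o' b hb => ⟨⊤, (QuotSh.J _ S).top_mem _, fun V g _ => ?_⟩⟩
  · obtain ⟨z', φ, hφ⟩ := hfib.exists_lift g
    obtain ⟨o, e, he⟩ := exists_toFib₂_obj h𝒵 h𝒴 z'
    refine ⟨o, e ≫ φ, ?_⟩
    haveI := he
    haveI := hφ
    exact IsHomLift.comp_lift_id_left' (StMod.fibCat f _).p ((StMod.fibCat f _).p.obj z') e g φ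
  · obtain ⟨o₀, φ, hφ⟩ := hsrc.exists_lift g
    obtain ⟨m, hm⟩ := exists_toFib₂_map h𝒵 h𝒴 b
    refine ⟨o₀, φ, φ ≫ m, hφ, ?_, by rw [Functor.map_comp, hm]⟩
    haveI : (StMod.fibCat f _).p.IsHomLift (𝟙 ((StMod.fibCat (fpSnd f w) ζ).p.obj o))
        ((toFib₂ f w ζ).map m) := hm.symm ▸ hb
    haveI : (StMod.fibCat (fpSnd f w) ζ).p.IsHomLift (𝟙 ((StMod.fibCat (fpSnd f w) ζ).p.obj o)) m :=
      (BasedFunctor.isHomLift_iff (toFib₂ f w ζ) _ m).1 inferInstance
    haveI := hφ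
    exact IsHomLift.comp_lift_id_right' (StMod.fibCat (fpSnd f w) ζ).p g φ
      ((StMod.fibCat (fpSnd f w) ζ).p.obj o) m

/-- Generating families relative to the projection give generating families over images of objects. -/
theorem isGenFam_fibCat_of_fpSnd (h𝒳 : IsFibGrpd 𝒳.p) (h𝒵 : IsFibGrpd 𝒵.p) (h𝒴 : IsFibGrpd 𝒴.p)
    {ι : Type*} (E : ι → StMod.QCoh 𝒳)
    (hgen : StMod.IsGenFam (fun i =>
      (StMod.comapQ (StMod.fibFst (fpSnd f w) ζ)).obj ((StMod.comapQ (fpFst f w)).obj (E i)))) :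
    StMod.IsGenFam (fun i => (StMod.comapQ (StMod.fibFst f (w.obj ζ))).obj (E i)) :=
  have hcomp : BasedFunctor.comp (toFib₂ f w ζ) (StMod.fibFst f (w.obj ζ)) =
      BasedFunctor.comp (StMod.fibFst (fpSnd f w) ζ) (fpFst f w) := rfl
  isGenFam_of_locEquiv (locEquiv_toFib₂ h𝒳 h𝒵 h𝒴) _
    (fun i => (StMod.comapQ (StMod.fibFst (fpSnd f w) ζ)).obj ((StMod.comapQ (fpFst f w)).obj (E i)))
    (fun i => (StMod.comapCompIso (StMod.fibFst f (w.obj ζ)) (toFib₂ f w ζ) (E i).obj).symm ≪≫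
      eqToIso (congrArg (fun F => StMod.Mod.comap F (E i).obj) hcomp) ≪≫
      StMod.comapCompIso (fpFst f w) (StMod.fibFst (fpSnd f w) ζ) (E i).obj) hgen

end Groth.Agent.StGen
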