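import Groth.Agent.StGen.Fib
import Groth.Agent.StGen.Glue
import Groth.Agent.StDesc.Push
import Groth.Agent.StDesc.Chart
import Groth.Agent.InjMod.SkyCofree
import Mathlib.AlgebraicGeometry.Morphisms.Flat

/-!
The pushforward along the functor of categories over objects induced by an affine morphism, and
the stability of generating families under such a base change.
-/

set_option autoImplicit false
set_option linter.style.haveILetI false
set_option linter.unusedSectionVars false
set_option backward.isDefEq.respectTransparency false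
set_option backward.isDefEq.respectTransparency.types false

universe u

open CategoryTheory CategoryTheory.Limits AlgebraicGeometry TopologicalSpace Opposite FibCat
open Groth.Agent.QCoh Groth.Agent.StDesc
open scoped TensorProduct

noncomputable section

namespace Groth.Agent.StGen

/-- A module with base change between affine opens along every morphism of objects is quasi-coherent. -/
theorem isQCoh_of_bc {S : Scheme.{u}} {𝒵 : AlgSt.Cat S} (G : StMod.Mod 𝒵)
    (H : ∀ {y x : 𝒵.obj} (a : y ⟶ x) (W : (StMod.sch 𝒵 x).Opens) (V : (StMod.sch 𝒵 y).Opens)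
      (h : V ≤ StMod.bmap 𝒵 a ⁻¹ᵁ W), IsAffineOpen W → IsAffineOpen V → BC G a W V h) :
    StMod.isQCoh 𝒵 G := by
  have hq : ∀ x, (G.obj x).IsQuasicoherent := fun x =>
    isQuasicoherent_of_forall_exists_isLocalizingAt _ fun z => by
      obtain ⟨_, ⟨W, hW, rfl⟩, hzW, -⟩ := (StMod.sch 𝒵 x).isBasis_affineOpens.exists_subset_of_mem_open
        (show z ∈ ((⊤ : (StMod.sch 𝒵 x).Opens) : Set _) from trivial) isOpen_univ
      exact ⟨W, hW, hzW, fun g => isLocalizingAt_of_bc hW g
        (by rw [StMod.bmap_id]; exact (StMod.sch 𝒵 x).basicOpen_le g)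
        (H (𝟙 x) W _ _ hW (hW.basicOpen g))⟩
  refine ⟨fun y x a g hg => ?_, fun x => hq x⟩
  subst hg
  let g := StMod.bmap 𝒵 a
  let t := ((Scheme.Modules.pullbackPushforwardAdjunction g).homEquiv _ _).symm (G.map a rfl)
  haveI := hq x
  have ht : G.map a rfl = (Scheme.Modules.pullbackPushforwardAdjunction g).unit.app (G.obj x) ≫
      (Scheme.Modules.pushforward g).map t :=
    ((((Scheme.Modules.pullbackPushforwardAdjunction g).homEquiv _ _).apply_symm_apply _).symm).trans
      (Adjunction.homEquiv_unit _ _ _ t)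
  let B : Set (StMod.sch 𝒵 y).Opens := {V | IsAffineOpen V ∧
    ∃ (W : (StMod.sch 𝒵 x).Opens), IsAffineOpen W ∧ V ≤ g ⁻¹ᵁ W}
  have hB : Opens.IsBasis B := Opens.isBasis_iff_nbhd.2 fun {U z} hz => by
    obtain ⟨_, ⟨W, hW, rfl⟩, hzW, -⟩ := (StMod.sch 𝒵 x).isBasis_affineOpens.exists_subset_of_mem_open
      (show g z ∈ ((⊤ : (StMod.sch 𝒵 x).Opens) : Set _) from trivial) isOpen_univ
    obtain ⟨_, ⟨V, hV, rfl⟩, hzV, hVle⟩ := (StMod.sch 𝒵 y).isBasis_affineOpens.exists_subset_of_mem_open
      (show z ∈ ((U ⊓ g ⁻¹ᵁ W : (StMod.sch 𝒵 y).Opens) : Set _) from ⟨hz, hzW⟩) (U ⊓ g ⁻¹ᵁ W).2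
    exact ⟨V, ⟨hV, W, hW, fun _ hq => (hVle hq).2⟩, hzV, fun _ hq => (hVle hq).1⟩
  refine InjMod.isIso_of_basis t B hB ?_
  rintro V ⟨hV, W, hW, hle⟩
  letI := (g.appLE W V hle).hom.toAlgebra
  letI := Module.compHom Γ(G.obj y, V) (g.appLE W V hle).hom
  haveI : IsScalarTower Γ(StMod.sch 𝒵 x, W) Γ(StMod.sch 𝒵 y, V) Γ(G.obj y, V) :=
    IsScalarTower.of_algebraMap_smul fun _ _ => rfl
  letI := LimTop.secModule g (G.obj x) hle
  haveI : IsScalarTower Γ(StMod.sch 𝒵 x, W) Γ(StMod.sch 𝒵 y, V)
      Γ((Scheme.Modules.pullback g).obj (G.obj x), V) :=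
    IsScalarTower.of_algebraMap_smul fun _ _ => rfl
  have b := H a W V hle hW hV
  let e₁ := (LimTop.isBaseChange_unitSec g (G.obj x) hle hW hV).equiv
  let e₂ := (show IsBaseChange Γ(StMod.sch 𝒵 y, V) (rawLin g (G.map a rfl) W V hle) from b).equiv
  have key : ∀ w, t.app V (e₁ w) = e₂ w := by
    intro w
    induction w using TensorProduct.induction_on with
    | zero => simp
    | tmul r s =>
      simp only [e₁, e₂, IsBaseChange.equiv_tmul]
      refine (Scheme.Modules.Hom.app_smul t r _).trans (congrArg (r • ·) ?_)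
      show t.app V (LimTop.unitSec g (G.obj x) hle s) = res (G.obj y) hle ((G.map a rfl).app W s)
      rw [ht, LimTop.unitSec_apply, app_res]
      rfl
    | add a b ha hb => simp only [map_add, ha, hb]
  have : (t.app V : Γ((Scheme.Modules.pullback g).obj (G.obj x), V) → Γ(G.obj y, V)) =
      fun q => e₂ (e₁.symm q) := funext fun q => by
    rw [← key, LinearEquiv.apply_symm_apply]
  show Function.Bijective (t.app V)
  rw [this]
  exact e₂.bijective.comp e₁.symm.bijective

variable {S : Scheme.{u}} {𝒳 𝒴 : AlgSt.Cat S} {f : 𝒳 ⥤ᵇ 𝒴} {η η' : 𝒴.obj} (r : η' ⟶ η)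

theorem bO_fibMap {z : (StMod.fibCat f η').obj} {x : (StMod.fibCat f η).obj}
    (β : (fibMap f r).obj z ⟶ x) : bO (fibMap f r) β = StMod.bmap (StMod.fibCat f η) β := by
  simp [bO, StMod.baseOver, StMod.bmap]

variable {r}

/-- Pullbacks of all objects. -/
abbrev PbChoice (r : η' ⟶ η) := ∀ x : (StMod.fibCat f η).obj, PbObj f r x

theorem bO_lift {z : (StMod.fibCat f η').obj} {x : (StMod.fibCat f η).obj} {P : PbObj f r x}
    {β : (fibMap f r).obj z ⟶ x} {d : z ⟶ P.obj} (hd : (fibMap f r).map d ≫ P.mor = β) :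
    bO (fibMap f r) β = StMod.bmap (StMod.fibCat f η') d ≫ bO (fibMap f r) P.mor := by
  rw [← hd]; exact bO_map _ d P.mor

variable (h𝒳 : IsFibGrpd 𝒳.p) (h𝒴 : IsFibGrpd 𝒴.p) {M : StMod.Mod (StMod.fibCat f η')}
include h𝒳 h𝒴

/-- A family is the same as a section over the pullback. -/
theorem bijective_evalPb {x : (StMod.fibCat f η).obj} (P : PbObj f r x)
    (U : (StMod.sch (StMod.fibCat f η) x).Opens) :
    Function.Bijective fun s : Fam (fibMap f r) M x U => s.val P.obj P.mor _ le_rfl := by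
  have hle : ∀ {z : (StMod.fibCat f η').obj} {β : (fibMap f r).obj z ⟶ x} {d : z ⟶ P.obj},
      (fibMap f r).map d ≫ P.mor = β → ∀ {V : (StMod.sch (StMod.fibCat f η') z).Opens},
      V ≤ bO (fibMap f r) β ⁻¹ᵁ U →
      V ≤ StMod.bmap (StMod.fibCat f η') d ⁻¹ᵁ (bO (fibMap f r) P.mor ⁻¹ᵁ U) := by
    intro z β d hd V hV
    rw [bO_lift hd] at hV
    exact hV
  refine ⟨fun s t e => ?_, fun t => ?_⟩
  · ext z β V hV
    obtain ⟨d, rfl⟩ := P.exists_lift h𝒳 h𝒴 β
    rw [← Fam.pb_val s d P.mor V le_rfl hV (hle rfl hV), ← Fam.pb_val t d P.mor V le_rfl hV (hle rfl hV)]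
    exact congrArg _ e
  · choose d hd using fun (z : (StMod.fibCat f η').obj) (β : (fibMap f r).obj z ⟶ x) =>
      P.exists_lift h𝒳 h𝒴 β
    refine ⟨⟨fun z β V => pb M (d z β) V.1 (hle (hd z β) V.2) t, ?_⟩, ?_⟩
    · intro z' z φ β V V' h h' hV
      have e : φ ≫ d z β = d z' ((fibMap f r).map φ ≫ β) := P.hom_ext h𝒳 (by
        rw [hd, Functor.map_comp, Category.assoc, hd])
      have h3 : V' ≤ StMod.bmap (StMod.fibCat f η') (φ ≫ d z β) ⁻¹ᵁ (bO (fibMap f r) P.mor ⁻¹ᵁ U) := by
        rw [e]; exact hle (hd z' _) h'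
      rw [pb_pb M φ (d z β) V' (hle (hd z β) h) hV h3]
      exact pb_congr M e V' h3 t
    · have e : d P.obj P.mor = 𝟙 P.obj := P.hom_ext h𝒳 (by
        rw [hd, CategoryTheory.Functor.map_id, Category.id_comp])
      show pb M (d P.obj P.mor) _ _ t = t
      rw [pb_congr M e, pb_id M _ le_rfl, res_self]

theorem hasPush_fibMap (r : η' ⟶ η) (M : StMod.Mod (StMod.fibCat f η')) : HasPush (fibMap f r) M where
  small x U := by
    obtain ⟨P⟩ := exists_pbObj f h𝒳 h𝒴 r x
    exact small_of_injective (bijective_evalPb h𝒳 h𝒴 P U).1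

section Affine

variable [IsAffine (StMod.sch 𝒴 η)] [IsAffine (StMod.sch 𝒴 η')] [HasPush (fibMap f r) M]

/-- The pushforward along an affine base change satisfies base change between affine opens. -/
theorem bc_push (hM : StMod.isQCoh _ M) {y x : (StMod.fibCat f η).obj} (a : y ⟶ x)
    (W : (StMod.sch (StMod.fibCat f η) x).Opens) (V : (StMod.sch (StMod.fibCat f η) y).Opens)
    (h : V ≤ StMod.bmap (StMod.fibCat f η) a ⁻¹ᵁ W) (hW : IsAffineOpen W) (hV : IsAffineOpen V) :
    BC (push (fibMap f r) M) a W V h := by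
  obtain ⟨Px⟩ := exists_pbObj f h𝒳 h𝒴 r x
  obtain ⟨Py⟩ := exists_pbObj f h𝒳 h𝒴 r y
  let R := fibMap f r
  let mx := bO R Px.mor
  let my := bO R Py.mor
  obtain ⟨d, hd⟩ := Px.exists_lift h𝒳 h𝒴 (Py.mor ≫ a)
  let g := StMod.bmap (StMod.fibCat f η) a
  let gd := StMod.bmap (StMod.fibCat f η') d
  have hpx : IsPullback mx (str f Px.obj) (str f x) (StMod.bmap 𝒴 r) := by
    simp only [mx, R, bO_fibMap]; exact Px.isPullback
  have hpy : IsPullback my (str f Py.obj) (str f y) (StMod.bmap 𝒴 r) := by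
    simp only [my, R, bO_fibMap]; exact Py.isPullback
  haveI : IsAffineHom mx := MorphismProperty.of_isPullback hpx.flip inferInstance
  haveI : IsAffineHom my := MorphismProperty.of_isPullback hpy.flip inferInstance
  have hw : my ≫ g = gd ≫ mx := by
    show bO R Py.mor ≫ StMod.bmap _ a = _
    rw [← bO_comp, ← hd, bO_map]
  have hc : IsPullback my gd g mx := by
    refine (IsPullback.of_right (h₁₂ := str f Px.obj) (v₁₃ := StMod.bmap 𝒴 r) (h₂₂ := str f x)
      (v₁₂ := mx) (h₁₁ := gd) (h₂₁ := g) (v₁₁ := my) ?_ hw.symm hpx.flip).flip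
    rw [show gd ≫ str f Px.obj = str f Py.obj from bmap_str f d, show g ≫ str f x = str f y from bmap_str f a]
    exact hpy.flip
  have h' : my ⁻¹ᵁ V ≤ gd ⁻¹ᵁ (mx ⁻¹ᵁ W) := by
    rw [← Scheme.Hom.comp_preimage, ← hw, Scheme.Hom.comp_preimage]
    exact my.preimage_mono h
  have hUY : my ⁻¹ᵁ V = my ⁻¹ᵁ V ⊓ gd ⁻¹ᵁ (mx ⁻¹ᵁ W) := (inf_eq_left.mpr h').symm
  have hpo := (isIso_pushoutSection_iff hc le_rfl h hUY).mp
    (isIso_pushoutSection_of_isAffineOpen hc le_rfl h hUY hW (hW.preimage mx) hV)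
  let K := Γ(StMod.sch (StMod.fibCat f η) x, W)
  let B := Γ(StMod.sch (StMod.fibCat f η) y, V)
  let A := Γ(StMod.sch (StMod.fibCat f η') Px.obj, mx ⁻¹ᵁ W)
  let A' := Γ(StMod.sch (StMod.fibCat f η') Py.obj, my ⁻¹ᵁ V)
  letI : Algebra K B := (g.appLE W V h).hom.toAlgebra
  letI : Algebra K A := (mx.appLE W (mx ⁻¹ᵁ W) le_rfl).hom.toAlgebra
  letI : Algebra B A' := (my.appLE V (my ⁻¹ᵁ V) le_rfl).hom.toAlgebra
  letI : Algebra A A' := (gd.appLE (mx ⁻¹ᵁ W) (my ⁻¹ᵁ V) h').hom.toAlgebra
  letI : Algebra K A' := (g.appLE W V h ≫ my.appLE V (my ⁻¹ᵁ V) le_rfl).hom.toAlgebra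
  haveI : IsScalarTower K B A' := IsScalarTower.of_algebraMap_eq fun _ => rfl
  haveI : IsScalarTower K A A' := IsScalarTower.of_algebraMap_eq fun q =>
    congrArg (fun m => (ConcreteCategory.hom m) q) hpo.w
  haveI : Algebra.IsPushout K B A A' := CommRingCat.isPushout_iff_isPushout.1 hpo
  let Q := Γ(M.obj Px.obj, mx ⁻¹ᵁ W)
  let Q' := Γ(M.obj Py.obj, my ⁻¹ᵁ V)
  letI : Module K Q := Module.compHom Q (mx.appLE W (mx ⁻¹ᵁ W) le_rfl).hom
  haveI : IsScalarTower K A Q := IsScalarTower.of_algebraMap_smul fun _ _ => rfl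
  letI : Module A Q' := Module.compHom Q' (gd.appLE (mx ⁻¹ᵁ W) (my ⁻¹ᵁ V) h').hom
  haveI : IsScalarTower A A' Q' := IsScalarTower.of_algebraMap_smul fun _ _ => rfl
  have hbc : IsBaseChange A' (rawLin gd (M.map d rfl) (mx ⁻¹ᵁ W) (my ⁻¹ᵁ V) h') :=
    bc_of_qcoh hM d (h := h') (hW.preimage mx) (hV.preimage my)
  let evx : Γ((push R M).obj x, W) → Q := fun s => (secFam (π := R) (F := M) s).val Px.obj Px.mor _ le_rfl
  let evy : Γ((push R M).obj y, V) → Q' := fun s => (secFam (π := R) (F := M) s).val Py.obj Py.mor _ le_rfl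
  have hevx : Function.Bijective evx := (bijective_evalPb h𝒳 h𝒴 Px W).comp (secFam (π := R) (F := M)).bijective
  have hevy : Function.Bijective evy := (bijective_evalPb h𝒳 h𝒴 Py V).comp (secFam (π := R) (F := M)).bijective
  let ex : Γ((push R M).obj x, W) ≃ₗ[K] Q := LinearEquiv.ofBijective
    { toFun := evx
      map_add' := fun p q => by simp only [evx, map_add, Fam.add_val]
      map_smul' := fun c p => by simp only [evx, map_smul, Fam.smul_val, RingHom.id_apply]; rfl } hevx
  have hev : ∀ s, evy (pb (push R M) a V h s) = pb M d (my ⁻¹ᵁ V) h' (evx s) := by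
    intro s
    show (secFam (pb (push R M) a V h s)).val Py.obj Py.mor _ le_rfl = _
    rw [secFam_pb, Fam.pull_val, Fam.val_congr _ _ hd.symm]
    exact (Fam.pb_val _ d Px.mor _ le_rfl _ h').symm
  letI : Module K Γ((push R M).obj y, V) := Module.compHom _ (g.appLE W V h).hom
  haveI : IsScalarTower K B Γ((push R M).obj y, V) := IsScalarTower.of_algebraMap_smul fun _ _ => rfl
  let l : Γ((push R M).obj x, W) →ₗ[K] Γ((push R M).obj y, V) := rawLin g ((push R M).map a rfl) W V h
  let Ψ : B ⊗[K] Q →+ Q' := AddMonoidHom.mk'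
    (fun w => evy (l.liftBaseChange B (ex.symm.toLinearMap.lTensor B w)))
    fun p q => by simp only [map_add, evy, Fam.add_val]
  have hΨ : Function.Bijective Ψ := by
    refine bijective_pushout_smul B (rawLin gd (M.map d rfl) (mx ⁻¹ᵁ W) (my ⁻¹ᵁ V) h') hbc Ψ (map_zero Ψ)
      (map_add Ψ) fun b q => ?_
    show evy (l.liftBaseChange B (b ⊗ₜ[K] ex.symm q)) = algebraMap B A' b • pb M d (my ⁻¹ᵁ V) h' q
    rw [LinearMap.liftBaseChange_tmul]
    show evy (b • pb (push R M) a V h (ex.symm q)) = _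
    have : evy (b • pb (push R M) a V h (ex.symm q)) =
        algebraMap B A' b • evy (pb (push R M) a V h (ex.symm q)) := by
      simp only [evy, map_smul, Fam.smul_val]; rfl
    rw [this, hev, show evx (ex.symm q) = q from ex.apply_symm_apply q]
  have hb : Function.Bijective (l.liftBaseChange B) := by
    have h2 : Function.Bijective (fun w => evy (l.liftBaseChange B w)) := by
      have e : (fun w => evy (l.liftBaseChange B w)) = fun w => Ψ (ex.toLinearMap.lTensor B w) := funext fun w => by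
        show _ = evy (l.liftBaseChange B (ex.symm.toLinearMap.lTensor B (ex.toLinearMap.lTensor B w)))
        rw [← LinearMap.lTensor_comp_apply, LinearEquiv.comp_coe, LinearEquiv.self_trans_symm,
          LinearEquiv.refl_toLinearMap, LinearMap.lTensor_id, LinearMap.id_apply]
      rw [e]
      exact hΨ.comp (LinearEquiv.lTensor B ex).bijective
    exact (Function.Bijective.of_comp_iff' hevy _).1 h2
  exact IsBaseChange.of_equiv (LinearEquiv.ofBijective _ hb) fun m => by
    show l.liftBaseChange B (1 ⊗ₜ m) = _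
    rw [LinearMap.liftBaseChange_tmul, one_smul]

theorem isQCoh_push_fibMap (hM : StMod.isQCoh _ M) : StMod.isQCoh _ (push (fibMap f r) M) :=
  isQCoh_of_bc _ fun a W V h hW hV => bc_push h𝒳 h𝒴 hM a W V h hW hV

end Affine

omit h𝒳 h𝒴

theorem bO_fibMap_id (z : (StMod.fibCat f η').obj) (V : (StMod.sch (StMod.fibCat f η') z).Opens) :
    V ≤ bO (fibMap f r) (𝟙 ((fibMap f r).obj z)) ⁻¹ᵁ V := by
  rw [bO_fibMap, StMod.bmap_id]
  exact le_rfl

variable {N : StMod.Mod (StMod.fibCat f η')}

/-- The image of a family under a morphism. -/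
def mapFam (v : M ⟶ N) {x : (StMod.fibCat f η).obj} {U : (StMod.sch (StMod.fibCat f η) x).Opens}
    (s : Fam (fibMap f r) M x U) : Fam (fibMap f r) N x U :=
  ⟨fun z β V => (v.app z).app V.1 (s.val z β V.1 V.2), by
    intro z' z φ β V V' h h' hV
    rw [← pb_hom M v φ V' hV, Fam.pb_val s φ β V' h h' hV]⟩

theorem mapFam_val (v : M ⟶ N) {x : (StMod.fibCat f η).obj} {U : (StMod.sch (StMod.fibCat f η) x).Opens}
    (s : Fam (fibMap f r) M x U) (z β V) (h) :
    (mapFam v s).val z β V h = (v.app z).app V (s.val z β V h) := rfl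

variable [HasPush (fibMap f r) M] [HasPush (fibMap f r) N]

variable (r) in
/-- The morphism of pushforwards of a morphism. -/
def pushHom (v : M ⟶ N) : push (fibMap f r) M ⟶ push (fibMap f r) N where
  app x := ⟨PresheafOfModules.homMk
    { app := fun U => AddCommGrpCat.ofHom
        (show Γ((push (fibMap f r) M).obj x, U.unop) →+ Γ((push (fibMap f r) N).obj x, U.unop) from
          AddMonoidHom.mk' (fun s => secFam.symm (mapFam v (secFam s))) fun a b => by
            rw [← map_add (secFam (π := fibMap f r) (F := N)).symm, map_add]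
            congr 1
            ext z β V h
            simp only [mapFam_val, Fam.add_val, map_add])
      naturality := fun {U V} i => by
        refine ConcreteCategory.hom_ext _ _ fun (s : Γ((push (fibMap f r) M).obj x, U.unop)) => ?_
        apply (secFam (π := fibMap f r) (F := N)).injective
        show secFam (secFam.symm (mapFam v (secFam (res ((push (fibMap f r) M).obj x) (leOfHom i.unop) s)))) =
          secFam (res ((push (fibMap f r) N).obj x) (leOfHom i.unop) (secFam.symm (mapFam v (secFam s))))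
        erw [secFam_res, secFam_res, LinearEquiv.apply_symm_apply, LinearEquiv.apply_symm_apply]
        rfl }
    (fun U c (s : Γ((push (fibMap f r) M).obj x, U.unop)) => by
      show secFam.symm (mapFam v (secFam ((show Γ(StMod.sch _ x, U.unop) from c) • s))) =
        (show Γ(StMod.sch _ x, U.unop) from c) • secFam.symm (mapFam v (secFam s))
      rw [← map_smul, map_smul]
      congr 1
      ext z β V h
      rw [mapFam_val, Fam.smul_val, Fam.smul_val, mapFam_val, Scheme.Modules.Hom.app_smul])⟩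
  comm {x' x} a g hg := by
    subst hg
    apply Scheme.Modules.hom_ext
    intro U
    refine ConcreteCategory.hom_ext _ _ fun (s : Γ((push (fibMap f r) M).obj x, U)) => ?_
    apply (secFam (π := fibMap f r) (F := N)).injective
    show secFam (secFam.symm (mapFam v (secFam (((push (fibMap f r) M).map a rfl).app U s)))) =
      secFam (((push (fibMap f r) N).map a rfl).app U (secFam.symm (mapFam v (secFam s))))
    have h1 : ∀ (F : StMod.Mod (StMod.fibCat f η')) [HasPush (fibMap f r) F]
        (s : Γ((push (fibMap f r) F).obj x, U)),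
        secFam (U := StMod.bmap (StMod.fibCat f η) a ⁻¹ᵁ U) (((push (fibMap f r) F).map a rfl).app U s) =
          Fam.pull a le_rfl (secFam s) := fun F _ s => LinearEquiv.apply_symm_apply _ _
    erw [h1, h1, LinearEquiv.apply_symm_apply, LinearEquiv.apply_symm_apply]
    rfl

theorem secFam_pushHom (v : M ⟶ N) {x : (StMod.fibCat f η).obj} (U : (StMod.sch (StMod.fibCat f η) x).Opens)
    (s : Γ((push (fibMap f r) M).obj x, U)) :
    secFam (((pushHom r v).app x).app U s) = mapFam v (secFam s) := LinearEquiv.apply_symm_apply _ _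

/-- The component of the morphism from an inverse image attached to a morphism into a pushforward. -/
def adjApp {F : StMod.Mod (StMod.fibCat f η)} (φ : F ⟶ push (fibMap f r) M) (z : (StMod.fibCat f η').obj) :
    (F.obj ((fibMap f r).obj z) : (StMod.sch (StMod.fibCat f η') z).Modules) ⟶ M.obj z :=
  ⟨PresheafOfModules.homMk
    { app := fun V => AddCommGrpCat.ofHom
        (show Γ(F.obj ((fibMap f r).obj z), V.unop) →+ Γ(M.obj z, V.unop) from
          AddMonoidHom.mk'
            (fun s => (secFam ((φ.app ((fibMap f r).obj z)).app V.unop s)).val z (𝟙 _) V.unop (bO_fibMap_id z V.unop))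
            fun a b => by rw [map_add, map_add, Fam.add_val])
      naturality := fun {U V} i => by
        refine ConcreteCategory.hom_ext _ _ fun (s : Γ(F.obj ((fibMap f r).obj z), U.unop)) => ?_
        show (secFam ((φ.app ((fibMap f r).obj z)).app V.unop (res (F.obj ((fibMap f r).obj z)) (leOfHom i.unop) s))).val z (𝟙 _)
            V.unop (bO_fibMap_id z V.unop) =
          res (M.obj z) (leOfHom i.unop)
            ((secFam ((φ.app ((fibMap f r).obj z)).app U.unop s)).val z (𝟙 _) U.unop (bO_fibMap_id z U.unop))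
        rw [app_res]
        erw [secFam_res]
        rw [Fam.restr_val, Fam.res_val] }
    (fun U c (s : Γ(F.obj ((fibMap f r).obj z), U.unop)) => by
      show (secFam ((φ.app ((fibMap f r).obj z)).app U.unop ((show Γ(StMod.sch (StMod.fibCat f η) ((fibMap f r).obj z), U.unop) from c) • s))).val
          z (𝟙 _) U.unop (bO_fibMap_id z U.unop) =
        (show Γ(StMod.sch (StMod.fibCat f η') z, U.unop) from c) •
          (secFam ((φ.app ((fibMap f r).obj z)).app U.unop s)).val z (𝟙 _) U.unop (bO_fibMap_id z U.unop)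
      erw [Scheme.Modules.Hom.app_smul, map_smul, Fam.smul_val]
      congr 1
      have key : ∀ {g : StMod.sch (StMod.fibCat f η) ((fibMap f r).obj z) ⟶
          StMod.sch (StMod.fibCat f η) ((fibMap f r).obj z)} (_ : g = 𝟙 _) (h : U.unop ≤ g ⁻¹ᵁ U.unop) (q),
          g.appLE U.unop U.unop h q = q := by
        intro g hg h q; subst hg; simp [Scheme.Hom.appLE]; erw [CategoryTheory.Functor.map_id]; rfl
      exact key (by rw [bO_fibMap, StMod.bmap_id]) _ c)⟩

theorem adjApp_app {F : StMod.Mod (StMod.fibCat f η)} (φ : F ⟶ push (fibMap f r) M)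
    (z : (StMod.fibCat f η').obj) (U : (StMod.sch (StMod.fibCat f η') z).Opens)
    (s : Γ(F.obj ((fibMap f r).obj z), U)) :
    (adjApp φ z).app U s =
      (secFam ((φ.app ((fibMap f r).obj z)).app U s)).val z (𝟙 _) U (bO_fibMap_id z U) := rfl

theorem adjApp_pb {F : StMod.Mod (StMod.fibCat f η)} (φ : F ⟶ push (fibMap f r) M)
    {z' z : (StMod.fibCat f η').obj} (c : z' ⟶ z) {U : (StMod.sch (StMod.fibCat f η') z).Opens}
    (V : (StMod.sch (StMod.fibCat f η') z').Opens) (h : V ≤ StMod.bmap (StMod.fibCat f η') c ⁻¹ᵁ U)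
    (s : Γ(F.obj ((fibMap f r).obj z), U)) :
    (adjApp φ z').app V (pb F ((fibMap f r).map c) V h s) = pb M c V h ((adjApp φ z).app U s) := by
  rw [adjApp_app, adjApp_app, pb_hom F φ ((fibMap f r).map c) V h, secFam_pb, Fam.pull_val]
  have hV : V ≤ bO (fibMap f r) ((fibMap f r).map c ≫ 𝟙 _) ⁻¹ᵁ U := by
    rw [Category.comp_id, bO_fibMap]; exact h
  rw [Fam.val_congr _ z' ((Category.id_comp ((fibMap f r).map c)).trans
    (Category.comp_id ((fibMap f r).map c)).symm)]
  exact (Fam.pb_val (secFam ((φ.app ((fibMap f r).obj z)).app U s)) c (𝟙 ((fibMap f r).obj z)) (V := U) V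
    (bO_fibMap_id z U) hV h).symm

theorem comap_map_fibMap (F : StMod.Mod (StMod.fibCat f η)) {z' z : (StMod.fibCat f η').obj} (c : z' ⟶ z) :
    (StMod.Mod.comap (fibMap f r) F).map c rfl = F.map ((fibMap f r).map c) rfl := by
  rw [StMod.Mod.comap_map]
  erw [StMod.castMap_rfl, StMod.pushforwardCongr_hom_app_self, Category.comp_id]

/-- The morphism from an inverse image attached to a morphism into a pushforward. -/
def adjHom {F : StMod.Mod (StMod.fibCat f η)} (φ : F ⟶ push (fibMap f r) M) :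
    StMod.Mod.comap (fibMap f r) F ⟶ M where
  app z := adjApp φ z
  comm {z' z} c g hg := by
    subst hg
    rw [comap_map_fibMap]
    apply Scheme.Modules.hom_ext
    intro U
    refine ConcreteCategory.hom_ext _ _ fun (s : Γ(F.obj ((fibMap f r).obj z), U)) => ?_
    have := adjApp_pb φ c (U := U) _ le_rfl s
    exact (congrArg _ (res_self (F.obj ((fibMap f r).obj z')) le_rfl _)).symm.trans (this.trans (res_self _ le_rfl _))

include h𝒳 h𝒴

omit [HasPush (fibMap f r) M] [HasPush (fibMap f r) N] in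
/-- Generating families are stable under a base change between affine schemes. -/
theorem eq_zero_of_generated (r : η' ⟶ η) [IsAffine (StMod.sch 𝒴 η)] [IsAffine (StMod.sch 𝒴 η')]
    {ι : Type*} (E : ι → StMod.QCoh (StMod.fibCat f η)) (hgen : StMod.IsGenFam E)
    (hM : StMod.isQCoh _ M) (hN : StMod.isQCoh _ N) (v : M ⟶ N)
    (hv : ∀ i (φ : StMod.Mod.comap (fibMap f r) (E i).obj ⟶ M), φ ≫ v = 0) : v = 0 := by
  haveI := hasPush_fibMap h𝒳 h𝒴 r M
  haveI := hasPush_fibMap h𝒳 h𝒴 r N
  let PM : StMod.QCoh (StMod.fibCat f η) := ⟨push (fibMap f r) M, isQCoh_push_fibMap h𝒳 h𝒴 hM⟩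
  let PN : StMod.QCoh (StMod.fibCat f η) := ⟨push (fibMap f r) N, isQCoh_push_fibMap h𝒳 h𝒴 hN⟩
  have hzero : (ObjectProperty.homMk (pushHom r v) : PM ⟶ PN) = 0 := by
    refine (StMod.isGenFam_iff E).1 hgen _ fun i φ => ?_
    refine StMod.Mod.hom_ext fun x => ?_
    apply Scheme.Modules.hom_ext
    intro U
    refine ConcreteCategory.hom_ext _ _ fun (s : Γ((E i).obj.obj x, U)) => ?_
    apply (secFam (π := fibMap f r) (F := N)).injective
    refine (secFam_pushHom v U ((φ.app x).app U s)).trans (Eq.trans ?_ (map_zero _).symm)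
    ext z β V hV
    rw [mapFam_val, Fam.zero_val]
    have hV' : V ≤ StMod.bmap (StMod.fibCat f η) β ⁻¹ᵁ U := bO_fibMap r β ▸ hV
    have e1 : (secFam ((φ.app x).app U s)).val z β V hV =
        ((adjHom φ).app z).app V (pb (E i).obj β V hV' s) := by
      show _ = (secFam ((φ.app ((fibMap f r).obj z)).app V (pb (E i).obj β V hV' s))).val z (𝟙 _) V (bO_fibMap_id z V)
      rw [pb_hom (E i).obj φ β V hV', secFam_pb, Fam.pull_val]
      exact Fam.val_congr _ z (Category.id_comp β).symm V _
    rw [e1]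
    exact congrArg (fun m : StMod.Mod.comap (fibMap f r) (E i).obj ⟶ N => (m.app z).app V
      (show Γ((E i).obj.obj ((fibMap f r).obj z), V) from pb (E i).obj β V hV' s)) (hv i (adjHom φ))
  have key : ∀ z : (StMod.fibCat f η').obj, IsAffine (StMod.sch (StMod.fibCat f η') z) → v.app z = 0 := by
    intro z hz
    obtain ⟨P⟩ := exists_pbObj f h𝒳 h𝒴 r ((fibMap f r).obj z)
    haveI : IsAffine (StMod.sch (StMod.fibCat f η) ((fibMap f r).obj z)) := hz
    haveI : IsAffine (StMod.sch (StMod.fibCat f η') P.obj) := IsAffine.of_isPullback P.isPullback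
    have hP : v.app P.obj = 0 := by
      refine hom_ext_top hM _ _ fun t => ?_
      obtain ⟨s, hs⟩ := (bijective_evalPb h𝒳 h𝒴 (M := M) P ⊤).2 t
      have h0 : mapFam v s = 0 := by
        have := congrArg (fun m : PM ⟶ PN => secFam ((m.hom.app _).app ⊤ (secFam.symm s))) hzero
        refine Eq.trans ?_ (this.trans (map_zero _))
        exact ((secFam_pushHom v ⊤ (secFam.symm s)).trans (by rw [LinearEquiv.apply_symm_apply])).symm
      rw [← hs]
      exact congrArg (fun q : Fam (fibMap f r) N _ ⊤ => q.val P.obj P.mor ⊤ le_rfl) h0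
    obtain ⟨d, -⟩ := P.exists_lift h𝒳 h𝒴 (𝟙 _)
    refine ext_of_pb hM.1 d _ _ fun U t => ?_
    rw [pb_hom M v d, hP]
    exact map_zero _
  refine StMod.Mod.hom_ext fun z => ?_
  apply Scheme.Modules.hom_ext
  intro U
  refine ConcreteCategory.hom_ext _ _ fun (t : Γ(M.obj z, U)) => ext_flat hN.1 _ _ fun w _ => ?_
  obtain ⟨_, ⟨W, hW, rfl⟩, hw, -⟩ := (StMod.sch (StMod.fibCat f η') z).isBasis_affineOpens.exists_subset_of_mem_open
    (show w ∈ ((⊤ : (StMod.sch (StMod.fibCat f η') z).Opens) : Set _) from trivial) isOpen_univ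
  obtain ⟨y, c, e, hc⟩ := exists_lift_mor (isFibGrpd_fibCat f h𝒳 η') z (Scheme.Opens.ι W)
  haveI : IsAffine (W : Scheme.{u}) := hW
  refine ⟨y, c, by rw [hc]; infer_instance, range_of_bmap c e _ hc ⟨w, hw⟩, ?_⟩
  rw [← pb_hom M v c, key y (.of_isIso e.hom)]
  exact (map_zero _).symm

end Groth.Agent.StGen
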