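import Groth.Agent.StGen.Fib
import Groth.Agent.StDesc.Desc
import Groth.Agent.StFib.Fp
import Groth.Agent.StFib.Yoneda

/-!
The fibre product with an object given by a functor on a slice category and the category over the
corresponding object have the same generating families.
-/

set_option autoImplicit false
set_option linter.style.haveILetI false
set_option linter.unusedSectionVars false
set_option backward.isDefEq.respectTransparency false
set_option backward.isDefEq.respectTransparency.types false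

universe u

open CategoryTheory CategoryTheory.Limits AlgebraicGeometry Opposite FibCat
open Groth.Agent.StDesc Groth.Agent.StFib

noncomputable section

namespace Groth.Agent.StGen

variable {S : Scheme.{u}} {𝒳 𝒴 : AlgSt.Cat S} (f : 𝒳 ⥤ᵇ 𝒴)

/-- A morphism into the comparison of two inverse images with identity components. -/
theorem exists_comapFib_iso {η η' : 𝒴.obj} (ψ : η' ⟶ η) (F : StMod.Mod 𝒳) :
    ∃ e : StMod.Mod.comap (fibMap f ψ) (StMod.Mod.comap (StMod.fibFst f η) F) ≅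
      StMod.Mod.comap (StMod.fibFst f η') F, True :=
  ⟨(StMod.comapCompIso (StMod.fibFst f η) (fibMap f ψ) F).symm, trivial⟩

variable {T : Over S} (y : overCat T ⥤ᵇ 𝒴)

/-- The comparison from the fibre product to the category over the object. -/
def toFib : fp f y ⥤ᵇ StMod.fibCat f (y.obj (Over.mk (𝟙 T))) where
  toFunctor :=
    { obj := fun o => CostructuredArrow.mk (Y := o.obj.fst) (o.obj.iso.hom ≫ y.map (overToId o.obj.snd))
      map := fun {o o'} m => CostructuredArrow.homMk m.hom.fst (by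
        have hw : f.map m.hom.fst ≫ o'.obj.iso.hom = o.obj.iso.hom ≫ y.map m.hom.snd := m.hom.w
        show f.map m.hom.fst ≫ o'.obj.iso.hom ≫ y.map (overToId o'.obj.snd) =
          o.obj.iso.hom ≫ y.map (overToId o.obj.snd)
        rw [← Category.assoc, hw, Category.assoc, ← Functor.map_comp]
        congr 2
        exact Over.OverMorphism.ext (over_w m.hom.snd))
      map_id := fun o => CostructuredArrow.hom_ext _ _ rfl
      map_comp := fun m m' => CostructuredArrow.hom_ext _ _ rfl }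
  w := rfl

variable {f y}

theorem exists_fp_of_fib (h𝒳 : IsFibGrpd 𝒳.p) (h𝒴 : IsFibGrpd 𝒴.p)
    (z : (StMod.fibCat f (y.obj (Over.mk (𝟙 T)))).obj) :
    ∃ (o : (fp f y).obj) (g : (toFib f y).obj o ⟶ z), (StMod.fibCat f _).p.IsHomLift
      (𝟙 ((StMod.fibCat f _).p.obj z)) g := by
  let c : 𝒳.p.obj z.left ⟶ T :=
    eqToHom (f.w_obj z.left).symm ≫ 𝒴.p.map z.hom ≫ eqToHom (y.w_obj (Over.mk (𝟙 T)))
  obtain ⟨χ, hχ, hfac⟩ := grpd_exists_vert_fac h𝒴 (y.map (overToId (Over.mk c))) z.hom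
    ((f.w_obj z.left).trans (y.w_obj (Over.mk c)).symm) (by
      simp [w_map, c, overToId, FibCat.overCat, BasedCategory.ofFunctor])
  refine ⟨fpMk z.left (Over.mk c) χ hχ, CostructuredArrow.homMk (𝟙 z.left) ?_, ?_⟩
  · show f.map (𝟙 z.left) ≫ z.hom = χ.hom ≫ y.map (overToId (Over.mk c))
    rw [CategoryTheory.Functor.map_id, Category.id_comp, hfac]
  · exact IsHomLift.of_fac' _ _ _ rfl rfl (by
      show 𝒳.p.map (𝟙 z.left) = eqToHom rfl ≫ 𝟙 (𝒳.p.obj z.left) ≫ eqToHom rfl
      simp)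

theorem exists_toFib_map (h𝒴 : IsFibGrpd 𝒴.p) {o o' : (fp f y).obj}
    (k : (toFib f y).obj o ⟶ (toFib f y).obj o') : ∃ m : o ⟶ o', (toFib f y).map m = k := by
  have hv := vert_fp_iso o
  have hv' := vert_fp_iso o'
  have hk : f.map k.left ≫ o'.obj.iso.hom ≫ y.map (overToId o'.obj.snd) =
      o.obj.iso.hom ≫ y.map (overToId o.obj.snd) := CostructuredArrow.w k
  have hb := congrArg (fun m => 𝒴.p.map m) hk
  simp [w_map, hv.2, hv'.2, overToId, FibCat.overCat, BasedCategory.ofFunctor] at hb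
  let a : o.obj.snd ⟶ o'.obj.snd := Over.homMk
    (eqToHom (fp_base_eq o).symm ≫ 𝒳.p.map k.left ≫ eqToHom (fp_base_eq o')) (by
      show (_ ≫ _ ≫ _) ≫ o'.obj.snd.hom = o.obj.snd.hom
      have := congrArg (fun m => eqToHom ((y.w_obj o.obj.snd).symm.trans
        ((vert_fp_iso o).base_eq.symm)) ≫ m ≫ eqToHom (y.w_obj (Over.mk (𝟙 T)))) hb
      simp [FibCat.overCat, BasedCategory.ofFunctor] at this ⊢
      exact this)
  refine ⟨fpHom k.left a ?_, CostructuredArrow.hom_ext _ _ rfl⟩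
  apply grpd_cancel h𝒴 (y.map (overToId o'.obj.snd))
  · rw [Category.assoc, Category.assoc, ← Functor.map_comp, hk]
    congr 2
    exact (Over.OverMorphism.ext (over_w a)).symm
  · simp [w_map, hv.2, hv'.2, a, FibCat.overCat, BasedCategory.ofFunctor]

/-- The comparison is a local equivalence. -/
theorem locEquiv_toFib (h𝒳 : IsFibGrpd 𝒳.p) (h𝒴 : IsFibGrpd 𝒴.p) : LocEquiv (toFib f y) := by
  have hfp : IsFibGrpd (fp f y).p := isFibGrpd_fp h𝒳 (isFibGrpd_overCat T) h𝒴 f y
  have hfib := isFibGrpd_fibCat f h𝒳 (y.obj (Over.mk (𝟙 T)))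
  refine ⟨hfp, hfib, fun z => ⟨⊤, (QuotSh.J _ S).top_mem _, fun V g _ => ?_⟩,
    fun o o' b hb => ⟨⊤, (QuotSh.J _ S).top_mem _, fun V g _ => ?_⟩⟩
  · obtain ⟨z', φ, hφ⟩ := hfib.exists_lift g
    obtain ⟨o, e, he⟩ := exists_fp_of_fib h𝒳 h𝒴 z'
    refine ⟨o, e ≫ φ, ?_⟩
    haveI := he
    haveI := hφ
    exact IsHomLift.comp_lift_id_left' (StMod.fibCat f _).p ((StMod.fibCat f _).p.obj z') e g φ
  · obtain ⟨o₀, φ, hφ⟩ := hfp.exists_lift g
    obtain ⟨m, hm⟩ := exists_toFib_map h𝒴 b
    refine ⟨o₀, φ, φ ≫ m, hφ, ?_, by rw [Functor.map_comp, hm]⟩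
    haveI : (StMod.fibCat f _).p.IsHomLift (𝟙 ((fp f y).p.obj o)) ((toFib f y).map m) := hm.symm ▸ hb
    haveI : (fp f y).p.IsHomLift (𝟙 ((fp f y).p.obj o)) m :=
      (BasedFunctor.isHomLift_iff (toFib f y) _ m).1 inferInstance
    haveI := hφ
    exact IsHomLift.comp_lift_id_right' (fp f y).p g φ ((fp f y).p.obj o) m

/-- Generating families on the fibre product give generating families over the object. -/
theorem isGenFam_fibCat_of_fp (h𝒳 : IsFibGrpd 𝒳.p) (h𝒴 : IsFibGrpd 𝒴.p) {ι : Type*} (E : ι → StMod.QCoh 𝒳)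
    (hgen : StMod.IsGenFam (fun i => (StMod.comapQ (fpFst f y)).obj (E i))) :
    StMod.IsGenFam (fun i => (StMod.comapQ (StMod.fibFst f (y.obj (Over.mk (𝟙 T))))).obj (E i)) := by
  rw [StMod.isGenFam_iff]
  intro M N v hv
  have L := locEquiv_toFib (f := f) (y := y) h𝒳 h𝒴
  refine InducedCategory.hom_ext (comap_faithful L N.property.1 v.hom (0 : M.obj ⟶ N.obj) ?_)
  have h0 : (StMod.comapQ (toFib f y)).map v = 0 := by
    refine (StMod.isGenFam_iff _).1 hgen _ fun i φ => ?_
    let e : StMod.Mod.comap (fpFst f y) (E i).obj ≅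
        StMod.Mod.comap (toFib f y) (StMod.Mod.comap (StMod.fibFst f _) (E i).obj) :=
      StMod.comapCompIso (StMod.fibFst f _) (toFib f y) (E i).obj
    obtain ⟨φ₀, hφ₀⟩ := comap_full L (G := StMod.Mod.comap (StMod.fibFst f _) (E i).obj) M.property (e.inv ≫ φ)
    rw [← cancel_epi e.inv, comp_zero, ← Category.assoc, ← hφ₀]
    refine ((StMod.comapFunctor (toFib f y)).map_comp φ₀ v.hom).symm.trans ?_
    rw [show φ₀ ≫ v.hom = 0 from hv i φ₀]
    exact (StMod.comapFunctor (toFib f y)).map_zero _ _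
  exact (congrArg InducedCategory.Hom.hom h0).trans ((StMod.comapFunctor (toFib f y)).map_zero _ _).symm

end Groth.Agent.StGen
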