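import Groth.Agent.StGen.FlatBC
import Groth.Agent.StGen.AffinePush
import Groth.Agent.StGen.Transfer
import Groth.Agent.StFib.PointsTop

/-!
Generating families relative to a morphism are local on the target for flat families.
-/

set_option autoImplicit false
set_option linter.style.haveILetI false
set_option linter.unusedSectionVars false
set_option backward.isDefEq.respectTransparency false
set_option backward.isDefEq.respectTransparency.types false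

universe u

open CategoryTheory CategoryTheory.Limits AlgebraicGeometry Opposite FibCat
open Groth.Agent.QCoh Groth.Agent.StDesc

noncomputable section

namespace Groth.Agent.StGen

variable {S : Scheme.{u}} {𝒳 𝒴 : AlgSt.Cat S}

/-- A morphism killed by all inverse images along a jointly surjective flat family is zero. -/
theorem hom_eq_zero_of_flat_family (h𝒳 : IsFibGrpd 𝒳.p) (h𝒴 : IsFibGrpd 𝒴.p) {f : 𝒳 ⥤ᵇ 𝒴} {η : 𝒴.obj}
    {M N : StMod.Mod (StMod.fibCat f η)} (hN : N.IsCartesian) (v : M ⟶ N)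
    (h : ∀ t : StMod.sch 𝒴 η, ∃ (η' : 𝒴.obj) (ψ : η' ⟶ η), Flat (StMod.bmap 𝒴 ψ) ∧
      t ∈ Set.range (StMod.bmap 𝒴 ψ) ∧ StMod.Mod.comapMap (fibMap f ψ) v = 0) : v = 0 := by
  refine StMod.Mod.hom_ext fun x => ?_
  apply Scheme.Modules.hom_ext
  intro U
  refine ConcreteCategory.hom_ext _ _ fun (s : Γ(M.obj x, U)) => ext_flat hN _ _ fun q _ => ?_
  obtain ⟨η', ψ, hfl, ⟨t', ht'⟩, hzero⟩ := h (str f x q)
  haveI := hfl
  obtain ⟨P⟩ := exists_pbObj f h𝒳 h𝒴 ψ x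
  obtain ⟨p, hp, -⟩ := Scheme.Pullback.exists_preimage_pullback (f := str f x) (g := StMod.bmap 𝒴 ψ) q t' ht'.symm
  refine ⟨(fibMap f ψ).obj P.obj, P.mor,
    MorphismProperty.of_isPullback (P := @Flat) P.isPullback.flip inferInstance,
    ⟨P.isPullback.isoPullback.inv p, ?_⟩, ?_⟩
  · rw [← Scheme.Hom.comp_apply, P.isPullback.isoPullback_inv_fst]
    exact hp
  · rw [← pb_hom M v P.mor]
    have e : v.app ((fibMap f ψ).obj P.obj) = 0 :=
      congrArg (fun m => StMod.Mod.Hom.app m P.obj) hzero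
    rw [e]
    exact (map_zero _).symm

/-- A family is generating over an object with affine scheme if this holds after base change to affine
objects through which a jointly surjective flat family of affine objects over it factors. -/
theorem isGenFam_of_local (h𝒳 : AlgSt.IsAlgStack Scheme.fppfPrecoverage 𝒳)
    (h𝒴 : AlgSt.IsAlgStack Scheme.fppfPrecoverage 𝒴) (f : 𝒳 ⥤ᵇ 𝒴)
    (hfqc : AlgSt.IsQuasiCompactMor Scheme.fppfPrecoverage f) (hfqs : AlgSt.IsQuasiSeparatedMor f)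
    {ι : Type*} (E : ι → StMod.QCoh 𝒳) (hE : ∀ i, (E i).obj.IsFinPres) (η : 𝒴.obj)
    [IsAffine (StMod.sch 𝒴 η)]
    (hloc : ∀ t : StMod.sch 𝒴 η, ∃ (η' ηa : 𝒴.obj) (ψ : η' ⟶ η) (_ : η' ⟶ ηa), Flat (StMod.bmap 𝒴 ψ) ∧
      t ∈ Set.range (StMod.bmap 𝒴 ψ) ∧ IsAffine (StMod.sch 𝒴 η') ∧ IsAffine (StMod.sch 𝒴 ηa) ∧
      StMod.IsGenFam (fun i => (StMod.comapQ (StMod.fibFst f ηa)).obj (E i))) :
    StMod.IsGenFam (fun i => (StMod.comapQ (StMod.fibFst f η)).obj (E i)) := by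
  rw [StMod.isGenFam_iff]
  intro M N v hv
  obtain ⟨C⟩ := exists_finCover h𝒳 h𝒴 f hfqc hfqs η inferInstance
  refine InducedCategory.hom_ext (hom_eq_zero_of_flat_family h𝒳.isStack.1 h𝒴.isStack.1 N.property.1 v.hom
    fun t => ?_)
  obtain ⟨η', ηa, ψ, r, hfl, ht, ha', haa, hgen⟩ := hloc t
  haveI := hfl
  haveI := ha'
  haveI := haa
  refine ⟨η', ψ, hfl, ht, eq_zero_of_generated h𝒳.isStack.1 h𝒴.isStack.1 r
    (fun i => (StMod.comapQ (StMod.fibFst f ηa)).obj (E i)) hgen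
    (StMod.isQCoh_comap M.property) (StMod.isQCoh_comap N.property) _ fun i φ => ?_⟩
  obtain ⟨e₁, -⟩ := exists_comapFib_iso f ψ (E i).obj
  obtain ⟨e₂, -⟩ := exists_comapFib_iso f r (E i).obj
  have h0 := comp_eq_zero_of_flat h𝒳.isStack.1 h𝒴.isStack.1 ψ C
    (E := StMod.Mod.comap (StMod.fibFst f η) (E i).obj) (StMod.isQCoh_comap (E i).property) M.property
    N.property (hE i C.x₀.left) v.hom (hv i) (e₁.hom ≫ e₂.inv ≫ φ)
  rw [Category.assoc, Category.assoc] at h0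
  rw [← cancel_epi (e₁.hom ≫ e₂.inv), Category.assoc, comp_zero]
  exact h0

/-- A flat family of charts by affine schemes gives affine objects flat over any object. -/
theorem exists_flat_lift (h𝒴 : AlgSt.IsAlgStack Scheme.fppfPrecoverage 𝒴) {A : Type*} (T : A → Over S)
    (y : ∀ a, overCat (T a) ⥤ᵇ 𝒴) (hfl : ∀ a, AlgSt.RepByAlgSpWith (AlgSp.LocP @Flat) (y a))
    (hsurj : ∀ p : AlgSt.Points 𝒴, ∃ (a : A) (t : (T a).left), AlgSt.Points.ofChart (y a) t = p)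
    (η : 𝒴.obj) (v : StMod.sch 𝒴 η) :
    ∃ (a : A) (η' : 𝒴.obj) (ψ : η' ⟶ η) (_ : η' ⟶ (y a).obj (Over.mk (𝟙 (T a)))),
      Flat (StMod.bmap 𝒴 ψ) ∧ v ∈ Set.range (StMod.bmap 𝒴 ψ) ∧ IsAffine (StMod.sch 𝒴 η') := by
  obtain ⟨y₀, i₀, hi₀⟩ := StFib.exists_overFunctor h𝒴.isStack.1 η rfl
  obtain ⟨a, t, hat⟩ := hsurj (AlgSt.Points.ofChart y₀ v)
  obtain ⟨W, c, b, ⟨i⟩, hpts, hflat, -, -⟩ := StFib.exists_chart_fp h𝒴 (y a) y₀
  haveI := hflat (hfl a)
  obtain ⟨w, -, hw⟩ := hpts t v hat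
  obtain ⟨_, ⟨W₀, hW₀, rfl⟩, hw₀, -⟩ := W.left.isBasis_affineOpens.exists_subset_of_mem_open
    (show w ∈ ((⊤ : W.left.Opens) : Set _) from trivial) isOpen_univ
  let j : Over.mk (Scheme.Opens.ι W₀ ≫ W.hom) ⟶ W := Over.homMk (Scheme.Opens.ι W₀) rfl
  let η' : 𝒴.obj := (y a).obj (Over.mk (j ≫ c))
  let ψ : η' ⟶ η := (StFib.isoApp i (Over.mk j)).hom ≫ y₀.map (StFib.overToId (Over.mk (j ≫ b))) ≫ i₀.hom
  let e : StMod.sch 𝒴 η' ≅ (W₀ : Scheme.{u}) := eqToIso (congrArg Comma.left ((y a).w_obj _))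
  have hb : StMod.bmap 𝒴 ψ = e.hom ≫ Scheme.Opens.ι W₀ ≫ b.left := by
    have h1 := (StFib.vert_isoApp i (Over.mk j)).2
    have h2 : 𝒴.p.map ψ = eqToHom ((y a).w_obj (Over.mk (j ≫ c))) ≫ (j ≫ b) := by
      simp only [ψ, Functor.map_comp]
      erw [h1]
      simp [StFib.w_map, hi₀.2, StFib.overToId, FibCat.overCat, BasedCategory.ofFunctor, AlgSt.overMap]
    show (𝒴.p.map ψ).left = _
    rw [h2]
    simp [e, j]
  haveI : IsAffine (W₀ : Scheme.{u}) := hW₀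
  refine ⟨a, η', ψ, (y a).map (StFib.overToId _), by rw [hb]; infer_instance, ?_, IsAffine.of_isIso e.hom⟩
  obtain ⟨q, hq⟩ := e.hom.surjective ⟨w, hw₀⟩
  refine ⟨q, ?_⟩
  rw [hb]
  show b.left (Scheme.Opens.ι W₀ (e.hom q)) = v
  rw [hq]
  exact hw

end Groth.Agent.StGen
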