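import Groth.Agent.StDesc.Sec
import Groth.Prelude.Def_StMod6

/-!
The categories of a morphism of stacks over the objects of the target: they are fibred in groupoids, a
morphism of objects of the target induces a functor between them, and this functor has pullbacks.
-/

set_option autoImplicit false
set_option linter.style.haveILetI false
set_option linter.unusedSectionVars false
set_option backward.isDefEq.respectTransparency false
set_option backward.isDefEq.respectTransparency.types false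

universe u

open CategoryTheory CategoryTheory.Limits AlgebraicGeometry Opposite FibCat
open Groth.Agent.StDesc

noncomputable section

namespace Groth.Agent.StGen

variable {S : Scheme.{u}} {𝒳 𝒴 : AlgSt.Cat S} (f : 𝒳 ⥤ᵇ 𝒴) {η η' : 𝒴.obj}

theorem bmap_eqToHom {y x : 𝒳.obj} (a : y ⟶ x) :
    StMod.bmap 𝒳 a ≫ eqToHom (StMod.sch_obj_eq f x).symm =
      eqToHom (StMod.sch_obj_eq f y).symm ≫ StMod.bmap 𝒴 (f.map a) := by
  rw [← cancel_mono (eqToHom (StMod.sch_obj_eq f x)), Category.assoc, Category.assoc,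
    StMod.bmap_map_comm f a rfl, eqToHom_trans, eqToHom_refl, Category.comp_id, ← Category.assoc,
    eqToHom_trans, eqToHom_refl, Category.id_comp]

/-- The category of a morphism over an object of the target is fibred in groupoids. -/
theorem isFibGrpd_fibCat (h : IsFibGrpd 𝒳.p) (η : 𝒴.obj) : IsFibGrpd (StMod.fibCat f η).p where
  exists_lift {x V} g := by
    obtain ⟨y, e, φ, hφ⟩ := StFib.grpd_exists_lift h x.left g
    refine ⟨CostructuredArrow.mk (Y := y) (f.map φ ≫ x.hom), CostructuredArrow.homMk φ rfl, ?_⟩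
    exact IsHomLift.of_fac' _ _ _ e rfl
      (show 𝒳.p.map φ = eqToHom e ≫ g ≫ eqToHom rfl by rw [hφ, eqToHom_refl, Category.comp_id])
  isStronglyCartesian {y x} φ :=
    { toIsHomLift := inferInstance
      universal_property' := fun {z} g ψ hψ => by
        have e : g ≫ 𝒳.p.map φ.left = 𝒳.p.map ψ.left :=
          haveI := hψ
          IsHomLift.eq_of_isHomLift (StMod.fibCat f η).p (g ≫ (StMod.fibCat f η).p.map φ) ψ
        obtain ⟨χ, h1, h2⟩ := StFib.grpd_exists_fac h φ.left ψ.left g e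
        refine ⟨CostructuredArrow.homMk χ ?_, ⟨?_, CostructuredArrow.hom_ext _ _ h2⟩, fun χ' hχ' => ?_⟩
        · have w₁ : f.map φ.left ≫ x.hom = y.hom := CostructuredArrow.w φ
          have w₂ : f.map ψ.left ≫ x.hom = z.hom := CostructuredArrow.w ψ
          show f.map χ ≫ y.hom = z.hom
          rw [← w₁, ← Category.assoc, ← Functor.map_comp, h2, w₂]
        · subst h1
          exact IsHomLift.of_fac' _ _ _ rfl rfl (by simp; rfl)
        · obtain ⟨h3, h4⟩ := hχ'
          exact CostructuredArrow.hom_ext _ _ (StFib.grpd_cancel h φ.left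
            ((congrArg CommaMorphism.left h4).trans h2.symm)
            ((IsHomLift.eq_of_isHomLift (StMod.fibCat f η).p g χ').symm.trans h1.symm)) }

/-- The functor induced by a morphism of objects of the target. -/
def fibMap (ψ : η' ⟶ η) : StMod.fibCat f η' ⥤ᵇ StMod.fibCat f η where
  toFunctor := CostructuredArrow.map ψ
  w := rfl

/-- The structure map of an object over `η` to the scheme of `η`. -/
def str (x : (StMod.fibCat f η).obj) : StMod.sch (StMod.fibCat f η) x ⟶ StMod.sch 𝒴 η :=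
  eqToHom (StMod.sch_obj_eq f x.left).symm ≫ StMod.bmap 𝒴 x.hom

theorem bmap_str {y x : (StMod.fibCat f η).obj} (a : y ⟶ x) :
    StMod.bmap (StMod.fibCat f η) a ≫ str f x = str f y := by
  have h2 : StMod.bmap 𝒴 y.hom = StMod.bmap 𝒴 (f.map a.left) ≫ StMod.bmap 𝒴 x.hom := by
    have w₁ : f.map a.left ≫ x.hom = y.hom := CostructuredArrow.w a
    rw [← StMod.bmap_comp, w₁]
  show StMod.bmap 𝒳 a.left ≫ eqToHom (StMod.sch_obj_eq f x.left).symm ≫ StMod.bmap 𝒴 x.hom =
    eqToHom (StMod.sch_obj_eq f y.left).symm ≫ StMod.bmap 𝒴 y.hom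
  rw [h2, ← Category.assoc, ← Category.assoc]
  exact congrArg (· ≫ StMod.bmap 𝒴 x.hom) (bmap_eqToHom f a.left)

theorem str_fibMap (ψ : η' ⟶ η) (z : (StMod.fibCat f η').obj) :
    str f ((fibMap f ψ).obj z) = str f z ≫ StMod.bmap 𝒴 ψ := by
  show eqToHom (StMod.sch_obj_eq f z.left).symm ≫ StMod.bmap 𝒴 (z.hom ≫ ψ) = _
  rw [StMod.bmap_comp, str, Category.assoc]

/-- A pullback of an object over `η` along a morphism `ψ` to `η`. -/
structure PbObj (ψ : η' ⟶ η) (x : (StMod.fibCat f η).obj) where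
  /-- the object over `η'` -/
  obj : (StMod.fibCat f η').obj
  /-- its morphism to the given object -/
  mor : (fibMap f ψ).obj obj ⟶ x
  isPullback : IsPullback (StMod.bmap (StMod.fibCat f η) mor) (str f obj) (str f x) (StMod.bmap 𝒴 ψ)

theorem exists_pbObj (h𝒳 : IsFibGrpd 𝒳.p) (h𝒴 : IsFibGrpd 𝒴.p) (ψ : η' ⟶ η)
    (x : (StMod.fibCat f η).obj) : Nonempty (PbObj f ψ x) := by
  obtain ⟨y, a, e, ha⟩ := exists_lift_mor h𝒳 x.left (pullback.fst (str f x) (StMod.bmap 𝒴 ψ))
  have h1 : StMod.bmap 𝒴 (f.map a ≫ x.hom) =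
      eqToHom (StMod.sch_obj_eq f y) ≫ StMod.bmap 𝒳 a ≫ str f x := by
    show _ = eqToHom (StMod.sch_obj_eq f y) ≫ StMod.bmap 𝒳 a ≫
      eqToHom (StMod.sch_obj_eq f x.left).symm ≫ StMod.bmap 𝒴 x.hom
    rw [StMod.bmap_comp, ← Category.assoc (StMod.bmap 𝒳 a), bmap_eqToHom, ← Category.assoc,
      ← Category.assoc, eqToHom_trans, eqToHom_refl, Category.id_comp]
  obtain ⟨γ, hγ, hγb⟩ := exists_fac h𝒴 ψ (f.map a ≫ x.hom)
    (eqToHom (StMod.sch_obj_eq f y) ≫ e.hom ≫ pullback.snd _ _) (by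
      rw [h1, ha, Category.assoc, Category.assoc, Category.assoc, pullback.condition])
  refine ⟨⟨CostructuredArrow.mk (Y := y) γ, CostructuredArrow.homMk a hγ.symm, ?_⟩⟩
  have hs : str f (CostructuredArrow.mk (Y := y) γ) = e.hom ≫ pullback.snd _ _ := by
    show eqToHom (StMod.sch_obj_eq f y).symm ≫ StMod.bmap 𝒴 γ = _
    rw [hγb, ← Category.assoc, eqToHom_trans, eqToHom_refl, Category.id_comp]
  rw [hs]
  show IsPullback (StMod.bmap 𝒳 a) _ _ _
  rw [ha]
  exact (IsPullback.of_hasPullback _ _).of_iso e.symm (Iso.refl _) (Iso.refl _) (Iso.refl _)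
    (by simp) (by simp) (by simp) (by simp)

variable {f}

theorem PbObj.exists_lift (h𝒳 : IsFibGrpd 𝒳.p) (h𝒴 : IsFibGrpd 𝒴.p) {ψ : η' ⟶ η}
    {x : (StMod.fibCat f η).obj} (P : PbObj f ψ x) {z : (StMod.fibCat f η').obj}
    (c : (fibMap f ψ).obj z ⟶ x) :
    ∃ d : z ⟶ P.obj, (fibMap f ψ).map d ≫ P.mor = c := by
  obtain ⟨χ, hχ, hχb⟩ := exists_fac h𝒳 P.mor.left c.left
    (P.isPullback.lift (StMod.bmap (StMod.fibCat f η) c) (str f z)
      ((bmap_str f c).trans (str_fibMap f ψ z)))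
    (P.isPullback.lift_fst _ _ _)
  refine ⟨CostructuredArrow.homMk χ ?_, CostructuredArrow.hom_ext _ _ hχ⟩
  show f.map χ ≫ P.obj.hom = z.hom
  refine hom_ext_bmap h𝒴 ψ ?_ ?_
  · have w₁ : f.map P.mor.left ≫ x.hom = P.obj.hom ≫ ψ := CostructuredArrow.w P.mor
    have w₂ : f.map c.left ≫ x.hom = z.hom ≫ ψ := CostructuredArrow.w c
    rw [Category.assoc, ← w₁, ← Category.assoc, ← Functor.map_comp, hχ, w₂]
  · rw [StMod.bmap_comp]
    have e1 : StMod.bmap 𝒳 χ ≫ str f P.obj = str f z :=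
      hχb ▸ P.isPullback.lift_snd _ _ _
    rw [← cancel_epi (eqToHom (StMod.sch_obj_eq f z.left).symm), ← Category.assoc]
    refine Eq.trans ?_ e1
    show _ = StMod.bmap 𝒳 χ ≫ eqToHom (StMod.sch_obj_eq f P.obj.left).symm ≫ StMod.bmap 𝒴 P.obj.hom
    rw [← Category.assoc (StMod.bmap 𝒳 χ)]
    exact congrArg (· ≫ StMod.bmap 𝒴 P.obj.hom) (bmap_eqToHom f χ).symm

theorem PbObj.hom_ext (h𝒳 : IsFibGrpd 𝒳.p) {ψ : η' ⟶ η} {x : (StMod.fibCat f η).obj} (P : PbObj f ψ x)
    {z : (StMod.fibCat f η').obj} {d d' : z ⟶ P.obj}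
    (h : (fibMap f ψ).map d ≫ P.mor = (fibMap f ψ).map d' ≫ P.mor) : d = d' := by
  have h1 : d.left ≫ P.mor.left = d'.left ≫ P.mor.left := congrArg CommaMorphism.left h
  refine CostructuredArrow.hom_ext _ _ (hom_ext_bmap h𝒳 P.mor.left h1 ?_)
  refine P.isPullback.hom_ext ?_ ?_
  · exact ((StMod.bmap_comp d.left P.mor.left).symm.trans (congrArg (StMod.bmap 𝒳) h1)).trans
      (StMod.bmap_comp d'.left P.mor.left)
  · exact (bmap_str f d).trans (bmap_str f d').symm

end Groth.Agent.StGen
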