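import Groth.Agent.StDesc.Alg
import Mathlib.Algebra.Module.FinitePresentation
import Mathlib.RingTheory.Flat.Basic
import Mathlib.RingTheory.Flat.Stability

/-!
Linear maps out of a finitely presented module commute with flat base change, along pushouts of rings.
-/

set_option autoImplicit false
set_option linter.style.haveILetI false

open TensorProduct Function

namespace Groth.Agent.StGen

/-- Linear maps from a finitely presented module into a base change along a flat ring map are the base
change of linear maps. -/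
theorem isBaseChange_hom {A A' : Type*} [CommRing A] [CommRing A'] [Algebra A A'] [Module.Flat A A']
    {E M M' : Type*} [AddCommGroup E] [Module A E] [Module.FinitePresentation A E] [AddCommGroup M]
    [Module A M] [AddCommGroup M'] [Module A M'] [Module A' M'] [IsScalarTower A A' M'] (d : M →ₗ[A] M')
    (hd : IsBaseChange A' d) :
    IsBaseChange A' (d.compRight A : (E →ₗ[A] M) →ₗ[A] (E →ₗ[A] M')) := by
  let h := Module.FinitePresentation.isBaseChange_map A E M A'
  let e : (A' ⊗[A] E →ₗ[A'] A' ⊗[A] M) ≃ₗ[A'] (E →ₗ[A] M') :=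
    (LinearEquiv.congrRight (hd.equiv) :
      (A' ⊗[A] E →ₗ[A'] A' ⊗[A] M) ≃ₗ[A'] (A' ⊗[A] E →ₗ[A'] M')) ≪≫ₗ (LinearMap.liftBaseChangeEquiv A').symm
  refine IsBaseChange.of_equiv (h.equiv ≪≫ₗ e) fun φ => ?_
  ext x
  rw [LinearEquiv.trans_apply, IsBaseChange.equiv_tmul, one_smul]
  change hd.equiv (LinearMap.baseChange A' φ (1 ⊗ₜ x)) = d (φ x)
  simp [IsBaseChange.equiv_tmul]

/-- Along a pushout square of rings with a flat side, `b ⊗ φ ↦ b • (d ∘ φ)` identifies `B ⊗ Hom(E, M)`
with the linear maps from `E` into the base change of `M`. -/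
theorem exists_homEquiv {R B A A' : Type*} [CommRing R] [CommRing B] [CommRing A] [CommRing A']
    [Algebra R B] [Algebra R A] [Algebra R A'] [Algebra B A'] [Algebra A A'] [IsScalarTower R B A']
    [IsScalarTower R A A'] [Algebra.IsPushout R B A A'] [Module.Flat R B]
    {E M M' : Type*} [AddCommGroup E] [Module A E] [Module.FinitePresentation A E] [AddCommGroup M]
    [Module R M] [Module A M] [IsScalarTower R A M] [AddCommGroup M'] [Module A M'] [Module A' M']
    [IsScalarTower A A' M'] (d : M →ₗ[A] M') (hd : IsBaseChange A' d) :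
    ∃ Θ : B ⊗[R] (E →ₗ[A] M) →+ (E →ₗ[A] M'),
      Bijective Θ ∧ ∀ b φ x, Θ (b ⊗ₜ φ) x = algebraMap B A' b • d (φ x) := by
  haveI : Algebra.IsPushout R A B A' := Algebra.IsPushout.symm inferInstance
  haveI : Module.Flat A A' := Module.Flat.isBaseChange R A B A' (‹Algebra.IsPushout R A B A'›.1)
  let D := (d.compRight A : (E →ₗ[A] M) →ₗ[A] (E →ₗ[A] M'))
  let β : B →+ (E →ₗ[A] M) →+ (E →ₗ[A] M') :=
    AddMonoidHom.mk' (fun b => AddMonoidHom.mk' (fun φ => algebraMap B A' b • D φ)
      fun φ ψ => by rw [map_add, smul_add]) fun b c => by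
        ext φ x
        simp [add_smul]
  let Θ := TensorProduct.liftAddHom (R := R) β fun r b φ => by
    show algebraMap B A' (r • b) • D φ = algebraMap B A' b • D (r • φ)
    rw [Algebra.smul_def r b, map_mul, ← IsScalarTower.algebraMap_apply, mul_comm, mul_smul,
      IsScalarTower.algebraMap_apply R A A', algebraMap_smul A' (algebraMap R A r), ← map_smul D, algebraMap_smul A r φ]
  refine ⟨Θ, ?_, fun b φ x => rfl⟩
  exact Groth.Agent.StDesc.bijective_pushout_smul B D (isBaseChange_hom d hd) Θ (map_zero Θ) (map_add Θ)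
    fun b φ => rfl

end Groth.Agent.StGen
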