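import Groth.Agent.StGen.Alg
import Groth.Agent.StGen.Fib
import Groth.Agent.StGen.Glue
import Groth.Agent.StDesc.Chart
import Groth.Agent.Props.QFP

/-!
Flat base change of morphisms out of a finitely presented module on the category of a morphism of stacks
over an object with affine scheme.
-/

set_option autoImplicit false
set_option linter.style.haveILetI false
set_option linter.unusedSectionVars false
set_option backward.isDefEq.respectTransparency false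
set_option backward.isDefEq.respectTransparency.types false

universe u

open CategoryTheory CategoryTheory.Limits AlgebraicGeometry Opposite FibCat
open Groth.Agent.QCoh Groth.Agent.StDesc
open scoped TensorProduct

noncomputable section

namespace Groth.Agent.StGen

section General

variable {S : Scheme.{u}} {𝒵 : AlgSt.Cat S} {G H : StMod.Mod 𝒵}

/-- A linear map is determined on pulled back sections. -/
theorem linearMap_ext_pb (hG : StMod.isQCoh 𝒵 G) {y x : 𝒵.obj} (φ : y ⟶ x) [IsAffine (StMod.sch 𝒵 y)]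
    [IsAffine (StMod.sch 𝒵 x)] {P : Type u} [AddCommGroup P] [Module Γ(StMod.sch 𝒵 y, ⊤) P]
    (v w : Γ(G.obj y, ⊤) →ₗ[Γ(StMod.sch 𝒵 y, ⊤)] P)
    (h : ∀ e, v (pb G φ (U := ⊤) ⊤ le_top e) = w (pb G φ (U := ⊤) ⊤ le_top e)) : v = w :=
  LinearMap.ext fun t => bc_induction (bc_of_qcoh hG φ (h := le_top) (isAffineOpen_top _) (isAffineOpen_top _))
    (fun t => v t = w t) ((map_zero v).trans (map_zero w).symm) h
    (fun r t ht => by rw [map_smul, map_smul, ht])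
    (fun a c ha hc => by rw [map_add, map_add, ha, hc]) t

/-- A semilinear map on global sections extends to the global sections of a pullback. -/
theorem exists_pullLin (hG : StMod.isQCoh 𝒵 G) {y x : 𝒵.obj} (φ : y ⟶ x) [IsAffine (StMod.sch 𝒵 y)]
    [IsAffine (StMod.sch 𝒵 x)] {P : Type u} [AddCommGroup P] [Module Γ(StMod.sch 𝒵 y, ⊤) P]
    (h : Γ(G.obj x, ⊤) →+ P)
    (hh : ∀ (r : Γ(StMod.sch 𝒵 x, ⊤)) e, h (r • e) = (StMod.bmap 𝒵 φ).appLE ⊤ ⊤ le_top r • h e) :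
    ∃ w : Γ(G.obj y, ⊤) →ₗ[Γ(StMod.sch 𝒵 y, ⊤)] P, ∀ e, w (pb G φ ⊤ le_top e) = h e := by
  let g := StMod.bmap 𝒵 φ
  letI := (g.appLE ⊤ ⊤ le_top).hom.toAlgebra
  letI := Module.compHom Γ(G.obj y, ⊤) (g.appLE ⊤ ⊤ le_top).hom
  letI := Module.compHom P (g.appLE ⊤ ⊤ le_top).hom
  haveI : IsScalarTower Γ(StMod.sch 𝒵 x, ⊤) Γ(StMod.sch 𝒵 y, ⊤) Γ(G.obj y, ⊤) :=
    IsScalarTower.of_algebraMap_smul fun _ _ => rfl
  haveI : IsScalarTower Γ(StMod.sch 𝒵 x, ⊤) Γ(StMod.sch 𝒵 y, ⊤) P :=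
    IsScalarTower.of_algebraMap_smul fun _ _ => rfl
  have b : IsBaseChange Γ(StMod.sch 𝒵 y, ⊤) (rawLin g (G.map φ rfl) ⊤ ⊤ le_top) :=
    bc_of_qcoh hG φ (h := le_top) (isAffineOpen_top _) (isAffineOpen_top _)
  exact ⟨b.lift { h with map_smul' := hh }, fun e => b.lift_eq _ e⟩

end General

variable {S : Scheme.{u}} {𝒳 𝒴 : AlgSt.Cat S} {f : 𝒳 ⥤ᵇ 𝒴} {η η' : 𝒴.obj}

theorem isAffine_pbObj {ψ : η' ⟶ η} {x : (StMod.fibCat f η).obj} (P : PbObj f ψ x)
    [IsAffine (StMod.sch 𝒴 η)] [IsAffine (StMod.sch 𝒴 η')] [IsAffine (StMod.sch (StMod.fibCat f η) x)] :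
    IsAffine (StMod.sch (StMod.fibCat f η') P.obj) :=
  IsAffine.of_isIso P.isPullback.isoPullback.hom

theorem pb_comap_fibMap (ψ : η' ⟶ η) (M : StMod.Mod (StMod.fibCat f η)) {z' z : (StMod.fibCat f η').obj}
    (φ : z' ⟶ z) {U : (StMod.sch (StMod.fibCat f η') z).Opens} (V : (StMod.sch (StMod.fibCat f η') z').Opens)
    (h : V ≤ StMod.bmap (StMod.fibCat f η') φ ⁻¹ᵁ U) (s : Γ(M.obj ((fibMap f ψ).obj z), U)) :
    pb (StMod.Mod.comap (fibMap f ψ) M) φ V h s = pb M ((fibMap f ψ).map φ) V h s := by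
  rw [pb_apply, StMod.Mod.comap_map]
  erw [StMod.castMap_rfl, StMod.pushforwardCongr_hom_app_self, Category.comp_id]
  rfl

variable (f) in
/-- The module of global sections over an object, over the functions on the base. -/
abbrev baseModule (M : StMod.Mod (StMod.fibCat f η)) (x : (StMod.fibCat f η).obj) :
    Module Γ(StMod.sch 𝒴 η, ⊤) Γ(M.obj x, ⊤) :=
  Module.compHom _ ((str f x).appLE ⊤ ⊤ le_top).hom

theorem appLE_str {y x : (StMod.fibCat f η).obj} (a : y ⟶ x) (r : Γ(StMod.sch 𝒴 η, ⊤)) :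
    (StMod.bmap (StMod.fibCat f η) a).appLE ⊤ ⊤ le_top ((str f x).appLE ⊤ ⊤ le_top r) =
      (str f y).appLE ⊤ ⊤ le_top r :=
  appLE_comp_apply _ _ (bmap_str f a).symm le_top le_top le_top r

set_option maxHeartbeats 1600000 in
/-- A morphism out of the inverse image of a finitely presented module on the category over `η'` is killed
by the inverse image of a morphism that kills all morphisms out of the module. -/
theorem comp_eq_zero_of_flat (h𝒳 : IsFibGrpd 𝒳.p) (h𝒴 : IsFibGrpd 𝒴.p) (ψ : η' ⟶ η)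
    [Flat (StMod.bmap 𝒴 ψ)] [IsAffine (StMod.sch 𝒴 η)] [IsAffine (StMod.sch 𝒴 η')]
    (C : FinCover (StMod.fibCat f η)) {E M N : StMod.Mod (StMod.fibCat f η)}
    (hE : StMod.isQCoh _ E) (hM : StMod.isQCoh _ M) (hN : StMod.isQCoh _ N)
    (hEfp : SheafOfModules.IsFinitePresentation.{u}
      (R := (StMod.sch (StMod.fibCat f η) C.x₀).ringCatSheaf) (E.obj C.x₀))
    (u : M ⟶ N) (hu : ∀ φ : E ⟶ M, φ ≫ u = 0)
    (φ'' : StMod.Mod.comap (fibMap f ψ) E ⟶ StMod.Mod.comap (fibMap f ψ) M) :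
    φ'' ≫ StMod.Mod.comapMap (fibMap f ψ) u = 0 := by
  haveI := C.aff₀
  haveI := C.aff₁
  let R := fibMap f ψ
  obtain ⟨P₀⟩ := exists_pbObj f h𝒳 h𝒴 ψ C.x₀
  obtain ⟨P₁⟩ := exists_pbObj f h𝒳 h𝒴 ψ C.x₁
  haveI := isAffine_pbObj P₀
  haveI := isAffine_pbObj P₁
  haveI : IsAffine (StMod.sch (StMod.fibCat f η) (R.obj P₀.obj)) := isAffine_pbObj P₀
  haveI : IsAffine (StMod.sch (StMod.fibCat f η) (R.obj P₁.obj)) := isAffine_pbObj P₁
  let 𝒵 := StMod.fibCat f η
  let A₀ := Γ(StMod.sch 𝒵 C.x₀, ⊤)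
  let A₁ := Γ(StMod.sch 𝒵 C.x₁, ⊤)
  let B₀ := Γ(StMod.sch 𝒵 (R.obj P₀.obj), ⊤)
  let B₁ := Γ(StMod.sch 𝒵 (R.obj P₁.obj), ⊤)
  let K := Γ(StMod.sch 𝒴 η, ⊤)
  let B := Γ(StMod.sch 𝒴 η', ⊤)
  -- the global sections at the two objects and their maps
  let g : ∀ z : (StMod.fibCat f η').obj, E.obj (R.obj z) ⟶ N.obj (R.obj z) :=
    fun z => φ''.app z ≫ u.app (R.obj z)
  have happ : ∀ z, (φ'' ≫ StMod.Mod.comapMap (fibMap f ψ) u).app z = g z := fun z => rfl
  have hg : ∀ {z' z : (StMod.fibCat f η').obj} (φ : z' ⟶ z) {U : (StMod.sch (StMod.fibCat f η') z).Opens}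
      (V : (StMod.sch (StMod.fibCat f η') z').Opens) (h : V ≤ StMod.bmap (StMod.fibCat f η') φ ⁻¹ᵁ U)
      (s : Γ(E.obj (R.obj z), U)),
      (g z').app V (pb E (R.map φ) V h s) = pb N (R.map φ) V h ((g z).app U s) := by
    intro z' z φ U V h s
    have := pb_hom (StMod.Mod.comap (fibMap f ψ) E) (φ'' ≫ StMod.Mod.comapMap (fibMap f ψ) u) φ V h s
    rw [pb_comap_fibMap, pb_comap_fibMap] at this
    exact this
  have hφ : ∀ {z' z : (StMod.fibCat f η').obj} (φ : z' ⟶ z) (s : Γ(E.obj (R.obj z), ⊤)),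
      (φ''.app z').app ⊤ (pb E (R.map φ) (U := ⊤) ⊤ le_top s) =
        pb M (R.map φ) (U := ⊤) ⊤ le_top ((φ''.app z).app ⊤ s) := by
    intro z' z φ s
    have := pb_hom (StMod.Mod.comap (fibMap f ψ) E) φ'' φ (U := ⊤) ⊤ le_top s
    rw [pb_comap_fibMap, pb_comap_fibMap] at this
    exact this
  have key : g P₀.obj = 0 := by
    refine hom_ext_top hE (x := R.obj P₀.obj) (g P₀.obj) 0 fun t => ?_
    refine bc_induction (bc_of_qcoh hE P₀.mor (U := ⊤) (h := le_top) (isAffineOpen_top _) (isAffineOpen_top _))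
      (fun t => (g P₀.obj).app ⊤ t = (0 : E.obj (R.obj P₀.obj) ⟶ N.obj (R.obj P₀.obj)).app ⊤ t) ?_
      (fun e => ?_) (fun r t ht => by rw [Scheme.Modules.Hom.app_smul, Scheme.Modules.Hom.app_smul, ht])
      (fun a c ha hc => by rw [map_add, map_add, ha, hc]) t
    · rw [map_zero, map_zero]
    -- scalars
    let i₀ := (str f P₀.obj).appLE ⊤ ⊤ le_top
    let i₁ := (str f P₁.obj).appLE ⊤ ⊤ le_top
    letI : Algebra K B := ((StMod.bmap 𝒴 ψ).appLE ⊤ ⊤ le_top).hom.toAlgebra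
    letI : Algebra K A₀ := ((str f C.x₀).appLE ⊤ ⊤ le_top).hom.toAlgebra
    letI : Algebra K A₁ := ((str f C.x₁).appLE ⊤ ⊤ le_top).hom.toAlgebra
    letI : Algebra A₀ B₀ := ((StMod.bmap 𝒵 P₀.mor).appLE ⊤ ⊤ le_top).hom.toAlgebra
    letI : Algebra A₁ B₁ := ((StMod.bmap 𝒵 P₁.mor).appLE ⊤ ⊤ le_top).hom.toAlgebra
    letI : Algebra B B₀ := i₀.hom.toAlgebra
    letI : Algebra B B₁ := i₁.hom.toAlgebra
    letI : Algebra K B₀ := ((str f (R.obj P₀.obj)).appLE ⊤ ⊤ le_top).hom.toAlgebra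
    letI : Algebra K B₁ := ((str f (R.obj P₁.obj)).appLE ⊤ ⊤ le_top).hom.toAlgebra
    haveI : IsScalarTower K A₀ B₀ := IsScalarTower.of_algebraMap_eq fun r => (appLE_str P₀.mor r).symm
    haveI : IsScalarTower K A₁ B₁ := IsScalarTower.of_algebraMap_eq fun r => (appLE_str P₁.mor r).symm
    haveI : IsScalarTower K B B₀ := IsScalarTower.of_algebraMap_eq fun r =>
      (appLE_comp_apply _ _ (str_fibMap f ψ P₀.obj) le_top le_top le_top r).symm
    haveI : IsScalarTower K B B₁ := IsScalarTower.of_algebraMap_eq fun r =>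
      (appLE_comp_apply _ _ (str_fibMap f ψ P₁.obj) le_top le_top le_top r).symm
    haveI : Algebra.IsPushout K B A₀ B₀ := CommRingCat.isPushout_iff_isPushout.1
      (isPushout_appLE P₀.isPullback).flip
    haveI : Algebra.IsPushout K B A₁ B₁ := CommRingCat.isPushout_iff_isPushout.1
      (isPushout_appLE P₁.isPullback).flip
    haveI : Module.Flat K B := HasRingHomProperty.appLE (P := @Flat) (StMod.bmap 𝒴 ψ) inferInstance
      ⟨⊤, isAffineOpen_top _⟩ ⟨⊤, isAffineOpen_top _⟩ le_top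
    -- modules
    letI : Module K Γ(M.obj C.x₀, ⊤) := baseModule f M C.x₀
    letI : Module K Γ(M.obj C.x₁, ⊤) := baseModule f M C.x₁
    haveI : IsScalarTower K A₀ Γ(M.obj C.x₀, ⊤) := IsScalarTower.of_algebraMap_smul fun _ _ => rfl
    haveI : IsScalarTower K A₁ Γ(M.obj C.x₁, ⊤) := IsScalarTower.of_algebraMap_smul fun _ _ => rfl
    letI := Module.compHom Γ(M.obj (R.obj P₀.obj), ⊤) ((StMod.bmap 𝒵 P₀.mor).appLE ⊤ ⊤ le_top).hom
    letI := Module.compHom Γ(M.obj (R.obj P₁.obj), ⊤) ((StMod.bmap 𝒵 P₁.mor).appLE ⊤ ⊤ le_top).hom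
    haveI : IsScalarTower A₀ B₀ Γ(M.obj (R.obj P₀.obj), ⊤) := IsScalarTower.of_algebraMap_smul fun _ _ => rfl
    haveI : IsScalarTower A₁ B₁ Γ(M.obj (R.obj P₁.obj), ⊤) := IsScalarTower.of_algebraMap_smul fun _ _ => rfl
    haveI : Module.FinitePresentation A₀ Γ(E.obj C.x₀, ⊤) :=
      Props.QFP.finitePresentation_sections_of_isFP (E.obj C.x₀) (isAffineOpen_top _)
    haveI : Module.FinitePresentation A₁ Γ(E.obj C.x₁, ⊤) := by
      letI := ((StMod.bmap 𝒵 C.p).appLE ⊤ ⊤ le_top).hom.toAlgebra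
      letI := Module.compHom Γ(E.obj C.x₁, ⊤) ((StMod.bmap 𝒵 C.p).appLE ⊤ ⊤ le_top).hom
      haveI : IsScalarTower A₀ A₁ Γ(E.obj C.x₁, ⊤) := IsScalarTower.of_algebraMap_smul fun _ _ => rfl
      have b : IsBaseChange A₁ (rawLin (StMod.bmap 𝒵 C.p) (E.map C.p rfl) ⊤ ⊤ le_top) :=
        bc_of_qcoh hE C.p (h := le_top) (isAffineOpen_top _) (isAffineOpen_top _)
      exact Module.FinitePresentation.of_equiv b.equiv
    have hd₀ : IsBaseChange B₀ (rawLin (StMod.bmap 𝒵 P₀.mor) (M.map P₀.mor rfl) ⊤ ⊤ le_top) :=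
      bc_of_qcoh hM P₀.mor (h := le_top) (isAffineOpen_top _) (isAffineOpen_top _)
    have hd₁ : IsBaseChange B₁ (rawLin (StMod.bmap 𝒵 P₁.mor) (M.map P₁.mor rfl) ⊤ ⊤ le_top) :=
      bc_of_qcoh hM P₁.mor (h := le_top) (isAffineOpen_top _) (isAffineOpen_top _)
    obtain ⟨Θ₀, hΘ₀, hΘ₀'⟩ := exists_homEquiv (R := K) (B := B) (E := Γ(E.obj C.x₀, ⊤)) _ hd₀
    obtain ⟨Θ₁, hΘ₁, hΘ₁'⟩ := exists_homEquiv (R := K) (B := B) (E := Γ(E.obj C.x₁, ⊤)) _ hd₁
    let θ : Γ(E.obj C.x₀, ⊤) →ₗ[A₀] Γ(M.obj (R.obj P₀.obj), ⊤) :=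
      { toFun := fun e => (φ''.app P₀.obj).app ⊤ (pb E P₀.mor (U := ⊤) ⊤ le_top e)
        map_add' := fun a c => by rw [map_add, map_add]
        map_smul' := fun r e => by
          rw [pb_smul, Scheme.Modules.Hom.app_smul]
          rfl }
    obtain ⟨t₀, ht₀⟩ := hΘ₀.2 θ
    -- the two maps to linear maps at `x₁`
    have hex : ∀ (p : C.x₁ ⟶ C.x₀) (χ : Γ(E.obj C.x₀, ⊤) →ₗ[A₀] Γ(M.obj C.x₀, ⊤)),
        ∃ w : Γ(E.obj C.x₁, ⊤) →ₗ[A₁] Γ(M.obj C.x₁, ⊤),
          ∀ e, w (pb E p ⊤ le_top e) = pb M p (U := ⊤) ⊤ le_top (χ e) := fun p χ =>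
      exists_pullLin hE p ((pb M p (U := ⊤) ⊤ le_top).comp χ.toAddMonoidHom) fun r e => by
        simp only [AddMonoidHom.coe_comp, Function.comp_apply, LinearMap.toAddMonoidHom_coe, map_smul]
        exact pb_smul M p ⊤ le_top r _
    choose w hw using hex
    let δ : ∀ p : C.x₁ ⟶ C.x₀,
        (Γ(E.obj C.x₀, ⊤) →ₗ[A₀] Γ(M.obj C.x₀, ⊤)) →ₗ[K] Γ(E.obj C.x₁, ⊤) →ₗ[A₁] Γ(M.obj C.x₁, ⊤) :=
      fun p =>
        { toFun := w p
          map_add' := fun χ χ' => linearMap_ext_pb hE p _ _ fun e => by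
            rw [hw, LinearMap.add_apply, LinearMap.add_apply, map_add, hw, hw]
          map_smul' := fun r χ => linearMap_ext_pb hE p _ _ fun e => by
            rw [hw, RingHom.id_apply, LinearMap.smul_apply, LinearMap.smul_apply, hw]
            show pb M p ⊤ le_top ((str f C.x₀).appLE ⊤ ⊤ le_top r • χ e) =
              (str f C.x₁).appLE ⊤ ⊤ le_top r • pb M p ⊤ le_top (χ e)
            rw [pb_smul, appLE_str] }
    have hcomp : ∀ p : C.x₁ ⟶ C.x₀, ∀ e,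
        Θ₁ ((δ p).lTensor B t₀) (pb E p ⊤ le_top e) =
          (φ''.app P₁.obj).app ⊤ (pb E P₁.mor (U := ⊤) ⊤ le_top (pb E p (U := ⊤) ⊤ le_top e)) := by
      intro p e
      obtain ⟨p', hp'⟩ := P₀.exists_lift h𝒳 h𝒴 (P₁.mor ≫ p)
      have e1 : ∀ (F : StMod.Mod 𝒵) (s : Γ(F.obj C.x₀, ⊤)),
          pb F P₁.mor (U := ⊤) ⊤ le_top (pb F p (U := ⊤) ⊤ le_top s) =
            pb F (R.map p') (U := ⊤) ⊤ le_top (pb F P₀.mor (U := ⊤) ⊤ le_top s) := fun F s => by
        rw [pb_pb F P₁.mor p ⊤ le_top le_top le_top, pb_pb F (R.map p') P₀.mor ⊤ le_top le_top le_top]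
        exact pb_congr F hp'.symm ⊤ le_top s
      have e2 : ∀ t, Θ₁ ((δ p).lTensor B t) (pb E p ⊤ le_top e) =
          pb M (R.map p') (U := ⊤) ⊤ le_top (Θ₀ t e) := by
        intro t
        induction t using TensorProduct.induction_on with
        | zero => simp
        | tmul b χ =>
          rw [LinearMap.lTensor_tmul, hΘ₁', hΘ₀']
          show i₁ b • pb M P₁.mor ⊤ le_top (w p χ (pb E p ⊤ le_top e)) =
            pb M (R.map p') ⊤ le_top (i₀ b • pb M P₀.mor ⊤ le_top (χ e))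
          rw [hw, e1, pb_smul]
          congr 1
          exact (appLE_comp_apply _ _ (bmap_str f p').symm le_top le_top le_top b).symm
        | add a c ha hc => simp only [map_add, LinearMap.add_apply, ha, hc]
      rw [e2, ht₀, e1]
      exact (hφ p' _).symm
    have hlin : ∀ p : C.x₁ ⟶ C.x₀, ∀ x, Θ₁ ((δ p).lTensor B t₀) x =
        (φ''.app P₁.obj).app ⊤ (pb E P₁.mor (U := ⊤) ⊤ le_top x) := fun p x => by
      let θ₁ : Γ(E.obj C.x₁, ⊤) →ₗ[A₁] Γ(M.obj (R.obj P₁.obj), ⊤) :=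
        { toFun := fun e => (φ''.app P₁.obj).app ⊤ (pb E P₁.mor (U := ⊤) ⊤ le_top e)
          map_add' := fun a c => by rw [map_add, map_add]
          map_smul' := fun r e => by
            rw [pb_smul, Scheme.Modules.Hom.app_smul]
            rfl }
      exact LinearMap.congr_fun (linearMap_ext_pb hE p _ θ₁ (hcomp p)) x
    have hker : (δ C.p - δ C.q).lTensor B t₀ = 0 := by
      rw [LinearMap.lTensor_sub, LinearMap.sub_apply, sub_eq_zero]
      exact hΘ₁.1 (LinearMap.ext fun x => (hlin C.p x).trans (hlin C.q x).symm)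
    obtain ⟨k, hk⟩ := ((Module.Flat.lTensor_exact B (LinearMap.exact_subtype_ker_map (δ C.p - δ C.q))) t₀).1 hker
    have hu₀ : ∀ (χ : LinearMap.ker (δ C.p - δ C.q)) (e : Γ(E.obj C.x₀, ⊤)),
        (u.app C.x₀).app ⊤ (χ.1 e) = 0 := by
      intro χ e
      obtain ⟨g₀, hg₀⟩ := exists_hom_of_top hE (M.obj C.x₀) χ.1
      obtain ⟨φ, rfl⟩ := exists_hom_of_cover (isFibGrpd_fibCat f h𝒳 η) hE hM C g₀
        fun s w₁ w₂ h₁ h₂ => by
          have eq : ∀ (p : C.x₁ ⟶ C.x₀) (v : E.obj C.x₁ ⟶ M.obj C.x₁),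
              (∀ e, v.app ⊤ (pb E p (U := ⊤) ⊤ le_top e) = pb M p (U := ⊤) ⊤ le_top (g₀.app ⊤ e)) →
              v.app ⊤ s = δ p χ.1 s := by
            intro p v hv
            refine bc_induction (bc_of_qcoh hE p (h := le_top) (isAffineOpen_top _) (isAffineOpen_top _))
              (fun s => v.app ⊤ s = δ p χ.1 s) (by rw [map_zero, map_zero]) (fun e => ?_)
              (fun r t ht => by rw [Scheme.Modules.Hom.app_smul, map_smul, ht])
              (fun a c ha hc => by rw [map_add, map_add, ha, hc]) s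
            rw [hv, hg₀]
            exact (hw p χ.1 e).symm
          rw [eq C.p w₁ fun e => h₁ ⊤ le_top e, eq C.q w₂ fun e => h₂ ⊤ le_top e]
          exact congrArg (fun L => L s) (sub_eq_zero.1 χ.2)
      have := congrArg (fun v : E ⟶ N => (v.app C.x₀).app ⊤ e) (hu φ)
      rw [← hg₀]
      exact this
    show (u.app (R.obj P₀.obj)).app ⊤ (θ e) = 0
    rw [← ht₀, ← hk]
    clear hk
    induction k using TensorProduct.induction_on with
    | zero => rw [map_zero, map_zero, LinearMap.zero_apply]; exact map_zero _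
    | tmul b χ =>
      rw [LinearMap.lTensor_tmul, hΘ₀', Scheme.Modules.Hom.app_smul]
      show i₀ b • (u.app (R.obj P₀.obj)).app ⊤ (pb M P₀.mor ⊤ le_top (χ.1 e)) = 0
      rw [pb_hom, hu₀, map_zero, smul_zero]
    | add a c ha hc =>
      rw [map_add, map_add, LinearMap.add_apply]
      exact (map_add _ _ _).trans ((congrArg₂ (· + ·) ha hc).trans (add_zero _))
  -- propagation
  refine StMod.Mod.hom_ext fun z => ?_
  rw [happ]
  apply Scheme.Modules.hom_ext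
  intro U
  refine ConcreteCategory.hom_ext _ _ fun (s : Γ(E.obj (R.obj z), U)) => ?_
  refine ext_flat hN.1 _ _ fun w _ => ?_
  obtain ⟨y, a, b, ha₁, -, ha₃⟩ := C.cover (R.obj z) w
  let y' : (StMod.fibCat f η').obj := CostructuredArrow.mk (Y := y.left) (f.map a.left ≫ z.hom)
  let a' : y' ⟶ z := CostructuredArrow.homMk a.left rfl
  let b' : R.obj y' ⟶ C.x₀ := CostructuredArrow.homMk b.left (by
    show f.map b.left ≫ C.x₀.hom = (f.map a.left ≫ z.hom) ≫ ψ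
    rw [Category.assoc]
    exact (CostructuredArrow.w b).trans (CostructuredArrow.w a).symm)
  refine ⟨R.obj y', R.map a', ha₁, ha₃, ?_⟩
  obtain ⟨d, hd⟩ := P₀.exists_lift h𝒳 h𝒴 b'
  have hzero : g y' = 0 := by
    refine ext_of_pb hE.1 (R.map d) (g y') 0 fun V t => ?_
    rw [hg d, key]
    exact map_zero _
  rw [← hg a', hzero]
  exact (map_zero _).symm

end Groth.Agent.StGen
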